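import Mathlib

/-!
Subgroups generated by few transpositions: invariant colourings, small orbits.
-/

set_option autoImplicit false

namespace CfsgLib.PermGen

open Equiv

/-- A family of `m` transpositions has an invariant colouring with at least `n - m` colours. -/
theorem exists_swap_colouring {α : Type*} [Fintype α] [DecidableEq α] :
    ∀ l : List (Perm α), (∀ t ∈ l, t.IsSwap) → ∃ c : α → α,
      (∀ t ∈ l, ∀ x, c (t x) = c x) ∧ Fintype.card α ≤ (Finset.univ.image c).card + l.length
  | [], _ => ⟨id, by simp, by simp⟩
  | t :: l, h => by
    obtain ⟨c, hc, hcard⟩ := exists_swap_colouring l fun s hs => h s (List.mem_cons_of_mem _ hs)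
    obtain ⟨a, b, -, rfl⟩ := h t List.mem_cons_self
    let f : α → α := fun y => if y = c b then c a else y
    refine ⟨f ∘ c, ?_, ?_⟩
    · intro s hs x
      rcases List.mem_cons.1 hs with rfl | hs
      · by_cases hxa : x = a
        · subst hxa; simp [f]
        by_cases hxb : x = b
        · subst hxb; simp [f]
        simp [Equiv.swap_apply_of_ne_of_ne hxa hxb]
      · simp [hc s hs x]
    · have hsub : (Finset.univ.image c).erase (c b) ⊆ Finset.univ.image (f ∘ c) := by
        intro y hy
        obtain ⟨hne, hy⟩ := Finset.mem_erase.1 hy
        obtain ⟨x, -, rfl⟩ := Finset.mem_image.1 hy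
        exact Finset.mem_image.2 ⟨x, Finset.mem_univ _, by simp [f, hne]⟩
      have h1 := Finset.card_le_card hsub
      rw [Finset.card_erase_of_mem (Finset.mem_image_of_mem c (Finset.mem_univ b))] at h1
      simp only [List.length_cons]
      omega

/-- Each colour class has at most `n + 1 - #colours` points. -/
theorem card_fiber_add_card_image_le {α β : Type*} [Fintype α] [DecidableEq β] (c : α → β) (x : α) :
    (Finset.univ.filter fun y => c y = c x).card + (Finset.univ.image c).card ≤ Fintype.card α + 1 := by
  classical
  have h : ((Finset.univ.image c).erase (c x)) ⊆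
      (Finset.univ.filter fun y => ¬ c y = c x).image c := by
    intro z hz
    obtain ⟨hne, hz⟩ := Finset.mem_erase.1 hz
    obtain ⟨y, -, rfl⟩ := Finset.mem_image.1 hz
    exact Finset.mem_image.2 ⟨y, by simp [hne], rfl⟩
  have h1 := (Finset.card_le_card h).trans Finset.card_image_le
  rw [Finset.card_erase_of_mem (Finset.mem_image_of_mem c (Finset.mem_univ x))] at h1
  have h2 := Finset.card_filter_add_card_filter_not (s := (Finset.univ : Finset α)) (fun y => c y = c x)
  rw [Finset.card_univ] at h2
  omega

/-- Invariant colourings are invariant under the generated subgroup. -/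
theorem colouring_invariant_closure {α β : Type*} (c : α → β) (T : Set (Perm α))
    (h : ∀ t ∈ T, ∀ x, c (t x) = c x) {g : Perm α} (hg : g ∈ Subgroup.closure T) :
    ∀ x, c (g x) = c x := by
  induction hg using Subgroup.closure_induction with
  | mem t ht => exact h t ht
  | one => simp
  | mul a b _ _ ha hb => intro x; rw [Perm.mul_apply, ha, hb]
  | inv a _ ha => intro x; conv_rhs => rw [← a.apply_symm_apply x]
                  exact (ha _).symm

theorem perm_four_isSolvable : Group.IsSolvable (Perm (Fin 4)) := by
  have h4 : Nat.card (Fin 4) = 4 := by simp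
  have := alternatingGroup.normal_kleinFour (α := Fin 4) h4
  have hK : Group.IsSolvable (alternatingGroup.kleinFour (Fin 4)) := by
    have := (alternatingGroup.kleinFour_isKleinFour (α := Fin 4) h4).isMulCommutative
    exact Group.isSolvable_of_comm fun a b => this.is_comm.comm a b
  have hA : Group.IsSolvable (alternatingGroup (Fin 4)) := by
    refine (Group.isSolvable_iff_subgroup_quotient (alternatingGroup.kleinFour (Fin 4))).2 ⟨hK, ?_⟩
    have hq : Nat.card (alternatingGroup (Fin 4) ⧸ alternatingGroup.kleinFour (Fin 4)) = 3 := by
      have h12 : Nat.card (alternatingGroup (Fin 4)) = 12 := by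
        rw [nat_card_alternatingGroup, h4]; rfl
      have h := Subgroup.card_eq_card_quotient_mul_card_subgroup (alternatingGroup.kleinFour (Fin 4))
      rw [h12, alternatingGroup.kleinFour_card_of_card_eq_four h4] at h
      omega
    have : Fact (Nat.Prime 3) := ⟨Nat.prime_three⟩
    have := (isCyclic_of_prime_card hq).isMulCommutative
    exact Group.isSolvable_of_comm fun a b => this.is_comm.comm a b
  have hU : Group.IsSolvable ℤˣ := inferInstance
  exact Group.isSolvable_of_ker_le_range (alternatingGroup (Fin 4)).subtype Perm.sign
    (by rw [Subgroup.range_subtype]; exact le_of_eq rfl)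

/-- A permutation group all whose orbits have at most four points is solvable. -/
theorem isSolvable_of_orbit_le_four {α : Type*} [Finite α] (H : Subgroup (Perm α))
    (h : ∀ x : α, Nat.card (MulAction.orbit H x) ≤ 4) : Group.IsSolvable H := by
  classical
  have he : ∀ x : α, Nonempty (MulAction.orbit H x ↪ Fin 4) := by
    intro x
    have : Fintype (MulAction.orbit H x) := Fintype.ofFinite _
    apply Function.Embedding.nonempty_of_card_le
    simpa [Nat.card_eq_fintype_card] using h x
  let e := fun x => (he x).some
  let ρ : H →* (α → Perm (Fin 4)) := MonoidHom.pi fun x =>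
    (Perm.viaEmbeddingHom (e x)).comp (MulAction.toPermHom H (MulAction.orbit H x))
  have hinj : Function.Injective ρ := by
    rw [injective_iff_map_eq_one]
    intro g hg
    apply Subtype.ext
    refine Equiv.ext fun x => ?_
    have h1 := congrFun hg x
    simp only [ρ, MonoidHom.pi_apply, MonoidHom.comp_apply, Pi.one_apply] at h1
    have h2 := (injective_iff_map_eq_one _).1 (Perm.viaEmbeddingHom_injective (e x)) _ h1
    exact congrArg Subtype.val (Equiv.ext_iff.1 h2 ⟨x, MulAction.mem_orbit_self x⟩)
  obtain ⟨n, hn⟩ := perm_four_isSolvable
  have : Group.IsSolvable (α → Perm (Fin 4)) := by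
    refine ⟨n, (Subgroup.eq_bot_iff_forall _).2 fun f hf => funext fun x => ?_⟩
    have := map_derivedSeries_le_derivedSeries (Pi.evalMonoidHom (fun _ : α => Perm (Fin 4)) x) n
      (Subgroup.mem_map_of_mem _ hf)
    rwa [hn, Subgroup.mem_bot] at this
  exact Group.isSolvable_of_isSolvable_injective hinj

end CfsgLib.PermGen
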