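import Cfsg.Agent.Lib.PermGen.ThreeCycleFStar
import Mathlib.GroupTheory.Sylow

/-!
Permutation groups containing all even products of the transpositions of a pairing.
-/

set_option autoImplicit false
set_option linter.style.haveILetI false

namespace CfsgLib.PermGen.DoubleTrans

open Equiv Equiv.Perm

variable {α : Type*} [Fintype α] [DecidableEq α] {m : ℕ}

/-- An injective family of pairs. -/
def IsPairing (p : Fin m → Fin 2 → α) : Prop := ∀ i j u v, p i u = p j v → i = j ∧ u = v

/-- The transposition of the `i`-th pair. -/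
def tr (p : Fin m → Fin 2 → α) (i : Fin m) : Perm α := swap (p i 0) (p i 1)

/-- The pairs `i` and `k` meet. -/
def Meets (p q : Fin m → Fin 2 → α) (i k : Fin m) : Prop := ∃ u v, p i u = q k v

theorem fin2_cases (u w : Fin 2) : w = u ∨ w = u + 1 := by revert u w; decide
theorem fin2_ne (u : Fin 2) : u + 1 ≠ u := by revert u; decide
theorem fin2_add (u : Fin 2) : u + 1 + 1 = u := by revert u; decide

theorem tr_apply (p : Fin m → Fin 2 → α) (i : Fin m) (u : Fin 2) : tr p i (p i u) = p i (u + 1) := by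
  fin_cases u <;> simp [tr]

theorem tr_apply_ne {p : Fin m → Fin 2 → α} {i : Fin m} {x : α} (h : ∀ u, x ≠ p i u) : tr p i x = x :=
  swap_apply_of_ne_of_ne (h 0) (h 1)

theorem tr_eq (p : Fin m → Fin 2 → α) (i : Fin m) (u : Fin 2) :
    tr p i = swap (p i u) (p i (u + 1)) := by
  fin_cases u <;> simp [tr, swap_comm]

theorem sq_three_cycle_of_cross {a b c d e f g : α} (hb : a ≠ b) (he : a ≠ e) (hbe : b ≠ e)
    (hac : a ≠ c) (had : a ≠ d) (haf : a ≠ f) (hag : a ≠ g) (hbc : b ≠ c) (hbd : b ≠ d)
    (hbf : b ≠ f) (hbg : b ≠ g) (hec : e ≠ c) (hed : e ≠ d) (hef : e ≠ f) (heg : e ≠ g)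
    (hcd : c ≠ d) (hfg : f ≠ g) (hcf : c ≠ f) (hcg : c ≠ g) (hdf : d ≠ f) (hdg : d ≠ g) :
    (((swap a b * swap c d) * (swap a e * swap f g)) ^ 2).IsThreeCycle := by
  have dsj : ∀ {x y z w : α}, x ≠ z → x ≠ w → y ≠ z → y ≠ w → Perm.Disjoint (swap x y) (swap z w) := by
    intro x y z w h1 h2 h3 h4 t
    by_cases ht : t = x ∨ t = y
    · right
      rcases ht with rfl | rfl
      · exact swap_apply_of_ne_of_ne h1 h2
      · exact swap_apply_of_ne_of_ne h3 h4
    · push Not at ht
      exact Or.inl (swap_apply_of_ne_of_ne ht.1 ht.2)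
  have h1 : Commute (swap c d) (swap a e) := (dsj hac.symm hec.symm had.symm hed.symm).commute
  have h2 : Commute (swap c d) (swap f g) := (dsj hcf hcg hdf hdg).commute
  have h3 : Commute (swap a b * swap a e) (swap c d * swap f g) :=
    Commute.mul_left
      (Commute.mul_right (dsj hac had hbc hbd).commute (dsj haf hag hbf hbg).commute)
      (Commute.mul_right (dsj hac had hec hed).commute (dsj haf hag hef heg).commute)
  have e1 : (swap a b * swap c d) * (swap a e * swap f g) =
      (swap a b * swap a e) * (swap c d * swap f g) := by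
    rw [mul_assoc, ← mul_assoc (swap c d), h1.eq, mul_assoc (swap a e), ← mul_assoc]
  have e2 : (swap c d * swap f g) ^ 2 = 1 := by
    rw [h2.mul_pow, pow_two, pow_two, swap_mul_self, swap_mul_self, mul_one]
  rw [e1, h3.mul_pow, e2, mul_one, pow_two]
  exact (isThreeCycle_swap_mul_swap_same hb he hbe).isThreeCycle_sq

variable {p q : Fin m → Fin 2 → α}

theorem cross_three_cycle (hp : IsPairing p) (hq : IsPairing q) (H : Subgroup (Perm α))
    (hpH : ∀ i j, i ≠ j → tr p i * tr p j ∈ H) (hqH : ∀ i j, i ≠ j → tr q i * tr q j ∈ H)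
    (hno : ∀ x ∈ H, ¬ x.IsThreeCycle) {i j k l : Fin m} (hij : i ≠ j) (hkl : k ≠ l) {u v : Fin 2}
    (huv : p i u = q k v) (hx : ∀ w, p i (u + 1) ≠ q k w) (h1 : ¬ Meets p q i l)
    (h2 : ¬ Meets p q j k) (h3 : ¬ Meets p q j l) : False := by
  refine hno _ (H.pow_mem (H.mul_mem (hpH i j hij) (hqH k l hkl)) 2) ?_
  rw [tr_eq p i u, tr_eq q k v, ← huv]
  have P : ∀ {i j u v}, i ≠ j → p i u ≠ p j v := fun h e => h (hp _ _ _ _ e).1
  have Q : ∀ {i j u v}, i ≠ j → q i u ≠ q j v := fun h e => h (hq _ _ _ _ e).1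
  exact sq_three_cycle_of_cross
    (fun e => fin2_ne u (hp _ _ _ _ e).2.symm)
    (fun e => fin2_ne v (hq _ _ _ _ (huv.symm.trans e)).2.symm)
    (hx _)
    (P hij) (P hij)
    (fun e => h1 ⟨_, _, e⟩) (fun e => h1 ⟨_, _, e⟩)
    (P hij) (P hij)
    (fun e => h1 ⟨_, _, e⟩) (fun e => h1 ⟨_, _, e⟩)
    (fun e => h2 ⟨_, _, e.symm⟩) (fun e => h2 ⟨_, _, e.symm⟩)
    (Q hkl) (Q hkl)
    (fun e => absurd (hp _ _ _ _ e).2 (by decide)) (fun e => absurd (hq _ _ _ _ e).2 (by decide))
    (fun e => h3 ⟨_, _, e⟩) (fun e => h3 ⟨_, _, e⟩) (fun e => h3 ⟨_, _, e⟩) (fun e => h3 ⟨_, _, e⟩)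

open Classical in
/-- The pairs of `q` met by the `i`-th pair of `p`. -/
noncomputable def nbr (p q : Fin m → Fin 2 → α) (i : Fin m) : Finset (Fin m) :=
  Finset.univ.filter (Meets p q i)

theorem mem_nbr {i k : Fin m} : k ∈ nbr p q i ↔ Meets p q i k := by simp [nbr]

theorem meets_comm {i k : Fin m} : Meets p q i k ↔ Meets q p k i :=
  ⟨fun ⟨u, v, h⟩ => ⟨v, u, h.symm⟩, fun ⟨u, v, h⟩ => ⟨v, u, h.symm⟩⟩

theorem nbr_card_le (hq : IsPairing q) (i : Fin m) : (nbr p q i).card ≤ 2 := by
  classical
  have hsel : ∀ k : nbr p q i, ∃ u, ∃ v, p i u = q k.1 v := fun k => mem_nbr.1 k.2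
  choose u v huv using hsel
  have hinj : Function.Injective u := fun a b h =>
    Subtype.ext (hq _ _ _ _ ((huv a).symm.trans ((congrArg (p i) h).trans (huv b)))).1
  simpa using Fintype.card_le_of_injective u hinj

/-- The pairs `i` and `k` meet in exactly one point. -/
def Cross (p q : Fin m → Fin 2 → α) (i k : Fin m) : Prop :=
  ∃ u v, p i u = q k v ∧ ∀ w, p i (u + 1) ≠ q k w

theorem cross_of_two (hq : IsPairing q) {i k l : Fin m} (h : Meets p q i k) (h' : Meets p q i l)
    (hne : k ≠ l) : Cross p q i k := by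
  obtain ⟨u, v, huv⟩ := h
  refine ⟨u, v, huv, fun w hw => ?_⟩
  obtain ⟨u', v', huv'⟩ := h'
  rcases fin2_cases u u' with rfl | rfl
  · exact hne (hq _ _ _ _ (huv.symm.trans huv')).1
  · exact hne (hq _ _ _ _ (hw.symm.trans huv')).1

theorem same_of_not_cross (hp : IsPairing p) (hq : IsPairing q) {i k : Fin m} (h : Meets p q i k)
    (hn : ¬ Cross p q i k) : ∃ v, ∀ u, p i u = q k (u + v) := by
  obtain ⟨u, v, huv⟩ := h
  by_contra hc
  push Not at hc
  refine hn ⟨u, v, huv, fun w hw => ?_⟩
  obtain ⟨u', hu'⟩ := hc (u + v)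
  rcases fin2_cases u u' with rfl | rfl
  · exact hu' (by rwa [show ∀ a b : Fin 2, a + (a + b) = b by decide])
  · refine hu' ?_
    have hwv : w ≠ v := fun e => fin2_ne u (hp _ _ _ _ ((e ▸ hw).trans huv.symm)).2
    rw [show u + 1 + (u + v) = v + 1 from (show ∀ a b : Fin 2, a + 1 + (a + b) = b + 1 by decide) u v, hw]
    rcases fin2_cases v w with rfl | rfl
    · exact absurd rfl hwv
    · rfl

theorem cross_meets (hp : IsPairing p) (hq : IsPairing q) (H : Subgroup (Perm α))
    (hpH : ∀ i j, i ≠ j → tr p i * tr p j ∈ H) (hqH : ∀ i j, i ≠ j → tr q i * tr q j ∈ H)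
    (hno : ∀ x ∈ H, ¬ x.IsThreeCycle) {i k : Fin m} (hx : Cross p q i k)
    {j l : Fin m} (hj : j ∉ nbr q p k) (hl : l ∉ nbr p q i) : Meets p q j l := by
  obtain ⟨u, v, huv, hx⟩ := hx
  by_contra h3
  refine cross_three_cycle hp hq H hpH hqH hno (j := j) (l := l) ?_ ?_ huv hx
    (fun h => hl (mem_nbr.2 h)) (fun h => hj (mem_nbr.2 (meets_comm.1 h))) h3
  · rintro rfl; exact hj (mem_nbr.2 ⟨v, u, huv.symm⟩)
  · rintro rfl; exact hl (mem_nbr.2 ⟨u, v, huv⟩)

theorem cross_structure (hp : IsPairing p) (hq : IsPairing q) (H : Subgroup (Perm α))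
    (hpH : ∀ i j, i ≠ j → tr p i * tr p j ∈ H) (hqH : ∀ i j, i ≠ j → tr q i * tr q j ∈ H)
    (hno : ∀ x ∈ H, ¬ x.IsThreeCycle) (hm : 4 ≤ m) {i k : Fin m} (hx : Cross p q i k) :
    m = 4 ∧ ∃ J L : Finset (Fin m), J.card = 2 ∧ L.card = 2 ∧ nbr q p k = Jᶜ ∧ nbr p q i = Lᶜ ∧
      ∀ j ∈ J, nbr p q j = L := by
  have hL := nbr_card_le (p := p) hq i
  have hJ := nbr_card_le (p := q) hp k
  have hsub : ∀ j ∈ (nbr q p k)ᶜ, (nbr p q i)ᶜ ⊆ nbr p q j := fun j hj l hl =>
    mem_nbr.2 (cross_meets hp hq H hpH hqH hno hx (Finset.mem_compl.1 hj) (Finset.mem_compl.1 hl))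
  have hsub' : ∀ l ∈ (nbr p q i)ᶜ, (nbr q p k)ᶜ ⊆ nbr q p l := fun l hl j hj =>
    mem_nbr.2 (meets_comm.1
      (cross_meets hp hq H hpH hqH hno hx (Finset.mem_compl.1 hj) (Finset.mem_compl.1 hl)))
  have hcJ : (nbr q p k)ᶜ.card = m - (nbr q p k).card := by rw [Finset.card_compl, Fintype.card_fin]
  have hcL : (nbr p q i)ᶜ.card = m - (nbr p q i).card := by rw [Finset.card_compl, Fintype.card_fin]
  obtain ⟨j, hj⟩ : (nbr q p k)ᶜ.Nonempty := Finset.card_pos.1 (by omega)
  obtain ⟨l, hl⟩ : (nbr p q i)ᶜ.Nonempty := Finset.card_pos.1 (by omega)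
  have h1 := (Finset.card_le_card (hsub j hj)).trans (nbr_card_le hq j)
  have h2 := (Finset.card_le_card (hsub' l hl)).trans (nbr_card_le hp l)
  refine ⟨by omega, (nbr q p k)ᶜ, (nbr p q i)ᶜ, by omega, by omega, (compl_compl _).symm,
    (compl_compl _).symm, fun j hj => (Finset.eq_of_subset_of_card_le (hsub j hj) ?_).symm⟩
  have := nbr_card_le (p := p) hq j
  omega

/-- Without three-cycles either the pairs agree or `m = 4` and the pairings cross in two blocks. -/
theorem trichotomy (hp : IsPairing p) (hq : IsPairing q) (H : Subgroup (Perm α))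
    (hpH : ∀ i j, i ≠ j → tr p i * tr p j ∈ H) (hqH : ∀ i j, i ≠ j → tr q i * tr q j ∈ H)
    (hno : ∀ x ∈ H, ¬ x.IsThreeCycle) (hm : 4 ≤ m) :
    (∀ i k, Meets p q i k → ∃ v, ∀ u, p i u = q k (u + v)) ∨
      (m = 4 ∧ (∀ i, (nbr p q i).card = 2) ∧
        ∀ i j, ¬ Disjoint (nbr p q i) (nbr p q j) → nbr p q i = nbr p q j) := by
  by_cases hx : ∃ i k, Cross p q i k
  swap
  · push Not at hx
    exact Or.inl fun i k h => same_of_not_cross hp hq h (hx i k)
  obtain ⟨i, k, hx⟩ := hx
  obtain ⟨hm4, J, L, hJ, hL, hJk, hLi, hrow⟩ := cross_structure hp hq H hpH hqH hno hm hx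
  -- seed again from the complementary block
  obtain ⟨j, hj⟩ : J.Nonempty := Finset.card_pos.1 (by omega)
  obtain ⟨l, hl, l', hl', hll⟩ := Finset.one_lt_card.1 (by omega : 1 < L.card)
  have hx' : Cross p q j l := cross_of_two hq (mem_nbr.1 (by rw [hrow j hj]; exact hl))
    (mem_nbr.1 (by rw [hrow j hj]; exact hl')) hll
  obtain ⟨-, J', L', hJ', hL', hJ'k, hL'i, hrow'⟩ := cross_structure hp hq H hpH hqH hno hm hx'
  have hLL : L' = Lᶜ := by rw [← hrow j hj, hL'i, compl_compl]
  have hJJ : J' = Jᶜ := by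
    have hsub : J ⊆ nbr q p l := fun a ha =>
      mem_nbr.2 (meets_comm.1 (mem_nbr.1 (by rw [hrow a ha]; exact hl)))
    have h := Finset.eq_of_subset_of_card_le hsub ((nbr_card_le hp l).trans hJ.ge)
    rw [h, hJ'k, compl_compl]
  have hall : ∀ a, nbr p q a = if a ∈ J then L else Lᶜ := fun a => by
    split_ifs with ha
    · exact hrow a ha
    · rw [← hLL]; exact hrow' a (hJJ ▸ Finset.mem_compl.2 ha)
  refine Or.inr ⟨hm4, fun a => ?_, fun a b hd => ?_⟩
  · rw [hall]; split_ifs
    · exact hL
    · rw [Finset.card_compl, Fintype.card_fin, hL]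
      omega
  · rw [hall a, hall b] at hd ⊢
    split_ifs at hd ⊢
    · rfl
    · exact absurd disjoint_compl_right hd
    · exact absurd disjoint_compl_left hd
    · rfl

/-- `P` is the involution of the pairing. -/
def IsFull (p : Fin m → Fin 2 → α) (P : Perm α) : Prop :=
  (∀ i u, P (p i u) = p i (u + 1)) ∧ ∀ x, (∀ i u, p i u ≠ x) → P x = x

theorem full_commute (hp : IsPairing p) (hq : IsPairing q) {P Q : Perm α} (hP : IsFull p P)
    (hQ : IsFull q Q) (h2 : ∀ i, (nbr p q i).card = 2)
    (hblk : ∀ i j, ¬ Disjoint (nbr p q i) (nbr p q j) → nbr p q i = nbr p q j) : Commute P Q := by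
  classical
  -- every point of a pair of `p` lies in a pair of `q`
  have hcov : ∀ i u, ∃ k v, p i u = q k v := by
    intro i u
    obtain ⟨k, hk, l, hl, hkl⟩ := Finset.one_lt_card.1 (by rw [h2]; omega : 1 < (nbr p q i).card)
    obtain ⟨a, b, hab⟩ := mem_nbr.1 hk
    obtain ⟨c, d, hcd⟩ := mem_nbr.1 hl
    rcases fin2_cases u a with rfl | rfl
    · exact ⟨k, b, hab⟩
    rcases fin2_cases u c with rfl | rfl
    · exact ⟨l, d, hcd⟩
    exact absurd (hq _ _ _ _ (hab.symm.trans hcd)).1 hkl
  choose kf vf hkv using hcov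
  have hinj : Function.Injective fun z : Fin m × Fin 2 => (kf z.1 z.2, vf z.1 z.2) := fun a b h => by
    have h3 : p a.1 a.2 = p b.1 b.2 := by
      simp only [Prod.mk.injEq] at h
      rw [hkv, hkv, h.1, h.2]
    exact Prod.ext (hp _ _ _ _ h3).1 (hp _ _ _ _ h3).2
  have hcov' : ∀ k v, ∃ i u, p i u = q k v := fun k v => by
    obtain ⟨⟨i, u⟩, h⟩ := (Finite.injective_iff_surjective.1 hinj) (k, v)
    simp only [Prod.mk.injEq] at h
    exact ⟨i, u, by rw [hkv, h.1, h.2]⟩
  refine Equiv.ext fun x => ?_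
  rw [Perm.mul_apply, Perm.mul_apply]
  by_cases hx : ∃ i u, p i u = x
  swap
  · push Not at hx
    have hx' : ∀ k v, q k v ≠ x := fun k v e => by
      obtain ⟨i, u, h⟩ := hcov' k v
      exact hx i u (h.trans e)
    rw [hQ.2 x hx', hP.2 x hx, hQ.2 x hx']
  obtain ⟨i, u, rfl⟩ := hx
  have e1 := hkv i u
  have e2 := hkv i (u + 1)
  set k := kf i u
  set v := vf i u
  set k₂ := kf i (u + 1)
  set v₂ := vf i (u + 1)
  have hk2 : k₂ ≠ k := fun e => by
    have hc := h2 i
    rw [Finset.card_eq_two] at hc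
    obtain ⟨a, b, hab, hset⟩ := hc
    have hall : ∀ c ∈ nbr p q i, c = k := fun c hc => by
      obtain ⟨w, z, hwz⟩ := mem_nbr.1 hc
      rcases fin2_cases u w with rfl | rfl
      · exact (hq _ _ _ _ (hwz.symm.trans e1)).1
      · exact (hq _ _ _ _ (hwz.symm.trans e2)).1.trans e
    exact hab ((hall a (by simp [hset])).trans (hall b (by simp [hset])).symm)
  obtain ⟨i₂, u₂, e3⟩ := hcov' k (v + 1)
  have hi2 : i₂ ≠ i := fun e => by
    subst e
    rcases fin2_cases u u₂ with rfl | rfl
    · exact fin2_ne v (hq _ _ _ _ (e3.symm.trans e1)).2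
    · exact hk2 (hq _ _ _ _ (e2.symm.trans e3)).1
  have hblk' := hblk i i₂ (Finset.not_disjoint_iff.2
    ⟨k, mem_nbr.2 ⟨u, v, e1⟩, mem_nbr.2 ⟨u₂, v + 1, e3⟩⟩)
  obtain ⟨w₁, w₂, hw⟩ := mem_nbr.1 (hblk' ▸ mem_nbr.2 ⟨u + 1, v₂, e2⟩ : k₂ ∈ nbr p q i₂)
  have hw2 : w₂ = v₂ + 1 := (fin2_cases v₂ w₂).resolve_left fun e =>
    hi2 (hp _ _ _ _ (hw.trans (e ▸ e2.symm))).1
  have hw1 : w₁ = u₂ + 1 := (fin2_cases u₂ w₁).resolve_left fun e => by
    subst e
    exact hk2 (hq _ _ _ _ (hw.symm.trans e3)).1
  have hQx : Q (p i u) = p i₂ u₂ := by rw [e1, hQ.1, e3]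
  rw [hQx, hP.1, hP.1, e2, hQ.1, ← hw1, hw, hw2]

theorem tr_conj (p : Fin m → Fin 2 → α) (g : Perm α) (i : Fin m) :
    g * tr p i * g⁻¹ = tr (fun a b => g (p a b)) i := by
  rw [tr, tr, mul_swap_eq_swap_mul, mul_inv_cancel_right]

theorem tr_commute (hp : IsPairing p) (i j : Fin m) : Commute (tr p i) (tr p j) := by
  by_cases h : i = j
  · rw [h]
  refine Perm.Disjoint.commute fun x => ?_
  by_cases hx : ∃ u, x = p i u
  · obtain ⟨u, rfl⟩ := hx
    exact Or.inr (tr_apply_ne fun v e => h (hp _ _ _ _ e).1)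
  · push Not at hx
    exact Or.inl (tr_apply_ne hx)

/-- An element commuting with its conjugates centralises a component. -/
theorem commute_component {G : Type*} [Group G] [Finite G] {F : Subgroup G} (hF : Cfsg.IsComponent F)
    (s : G) (hs : ∀ g, Commute s (g * s * g⁻¹)) : ∀ f ∈ F, f * s = s * f := by
  set E := Subgroup.normalClosure ({s} : Set G)
  have hcomm : ∀ a ∈ E, ∀ b ∈ E, a * b = b * a := by
    have hgen : ∀ a ∈ Group.conjugatesOfSet ({s} : Set G), ∀ b ∈ Group.conjugatesOfSet ({s} : Set G),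
        a * b = b * a := by
      intro a ha b hb
      simp only [Group.mem_conjugatesOfSet_iff, Set.mem_singleton_iff, exists_eq_left] at ha hb
      obtain ⟨g, rfl⟩ := isConj_iff.1 ha
      obtain ⟨h, rfl⟩ := isConj_iff.1 hb
      have := ((hs (g⁻¹ * h)).map (MulAut.conj g).toMonoidHom).eq
      simpa [mul_assoc] using this
    have h1 : ∀ b ∈ Group.conjugatesOfSet ({s} : Set G), ∀ a ∈ E, a * b = b * a := fun b hb a ha => by
      have : E ≤ Subgroup.centralizer {b} := (Subgroup.closure_le _).2 fun c hc =>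
        Subgroup.mem_centralizer_singleton_iff.2 (hgen c hc b hb)
      exact Subgroup.mem_centralizer_singleton_iff.1 (this ha)
    intro a ha b hb
    have : E ≤ Subgroup.centralizer {a} := (Subgroup.closure_le _).2 fun c hc =>
      Subgroup.mem_centralizer_singleton_iff.2 (h1 c hc a ha).symm
    exact (Subgroup.mem_centralizer_singleton_iff.1 (this hb)).symm
  haveI : Group.IsSolvable E := Group.isSolvable_of_comm fun a b => Subtype.ext (hcomm a a.2 b b.2)
  rcases Components.component_le_or_commutator hF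
      (Subgroup.Normal.isSubnormal (Subgroup.normalClosure_normal (s := ({s} : Set G)))) with h | h
  · exact absurd h (Components.component_not_le_of_isSolvable hF inferInstance)
  intro f hf
  have hsE : s ∈ E := Subgroup.subset_normalClosure rfl
  have h' : ⁅F, E⁆ = ⊥ := by
    first
      | exact h
      | (rw [Subgroup.commutator_comm]; exact h)
  exact (Subgroup.mem_centralizer_iff.1
    (Subgroup.commutator_eq_bot_iff_le_centralizer.1 h' hf) s hsE).symm

/-- A group containing the even products of a pairing and having quasisimple `F*` has a three-cycle. -/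
theorem exists_threeCycle (hp : IsPairing p) (hm : 4 ≤ m)
    (hunc : ∀ x y, (∀ i u, p i u ≠ x) → (∀ i u, p i u ≠ y) → x = y) (H : Subgroup (Perm α))
    (hpH : ∀ i j, i ≠ j → tr p i * tr p j ∈ H) {F : Subgroup H} (hF : Cfsg.IsComponent F) :
    ∃ x ∈ H, x.IsThreeCycle := by
  classical
  by_contra hno
  push Not at hno
  have hconj : ∀ (g : H) i j, i ≠ j →
      tr (fun a b => (g : Perm α) (p a b)) i * tr (fun a b => (g : Perm α) (p a b)) j ∈ H := fun g i j h => by
    rw [← tr_conj, ← tr_conj]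
    have := H.mul_mem (H.mul_mem g.2 (hpH i j h)) (H.inv_mem g.2)
    simpa [mul_assoc] using this
  have hpair : ∀ g : Perm α, IsPairing fun a b => g (p a b) := fun g i j u v h =>
    hp i j u v (g.injective h)
  -- each element of `F` permutes the pairs, and the permutation is trivial
  suffices htriv : ∀ f ∈ F, ∀ i u, ∃ w, (f : Perm α) (p i u) = p i w by
    have hsq : ∀ f ∈ F, f * f = 1 := by
      intro f hf
      refine Subtype.ext (Equiv.ext fun x => ?_)
      show (f : Perm α) ((f : Perm α) x) = x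
      by_cases hx : ∃ i u, p i u = x
      · obtain ⟨i, u, rfl⟩ := hx
        obtain ⟨w, hw⟩ := htriv f hf i u
        obtain ⟨w', hw'⟩ := htriv f hf i w
        rw [hw, hw']
        rcases fin2_cases u w with rfl | rfl
        · rw [← hw', hw]
        · rcases fin2_cases (u + 1) w' with rfl | rfl
          · exact absurd (hp _ _ _ _ ((f : Perm α).injective (hw'.trans hw.symm))).2 (fin2_ne u)
          · rw [fin2_add]
      · push Not at hx
        have hfx : ∀ i u, p i u ≠ (f : Perm α) x := fun i u e => by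
          obtain ⟨w, hw⟩ := htriv f⁻¹ (inv_mem hf) i u
          refine hx i w (hw.symm.trans ?_)
          rw [e]
          simp
        have := hunc _ _ hfx hx
        rw [this, this]
    have hab : ⁅F, F⁆ = ⊥ := by
      rw [Subgroup.commutator_eq_bot_iff_le_centralizer]
      intro a ha
      rw [Subgroup.mem_centralizer_iff]
      intro b hb
      have h1 := eq_inv_of_mul_eq_one_left (hsq _ (mul_mem ha hb))
      rw [mul_inv_rev, ← eq_inv_of_mul_eq_one_left (hsq a ha), ← eq_inv_of_mul_eq_one_left (hsq b hb)] at h1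
      exact h1.symm
    exact Components.component_ne_bot hF (by rw [← Components.component_commutator_self hF, hab])
  by_cases hm4 : m = 4
  · subst hm4
    -- the involution of the pairing
    have hne : ∀ {a b : Fin 4}, a ≠ b → ∀ u v, p a u ≠ p b v := fun h u v e => h (hp _ _ _ _ e).1
    have hfull : ∀ {r : Fin 4 → Fin 2 → α}, IsPairing r →
        IsFull r (tr r 0 * tr r 1 * (tr r 2 * tr r 3)) := by
      intro r hr
      have hfix : ∀ {a i : Fin 4}, a ≠ i → ∀ u, tr r a (r i u) = r i u := fun {a i} h u =>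
        tr_apply_ne fun v e => h (hr _ _ _ _ e).1.symm
      refine ⟨fun i u => ?_, fun x hx => ?_⟩
      · fin_cases i <;> simp [Perm.mul_apply, hfix, tr_apply]
      · simp [Perm.mul_apply, tr_apply_ne fun u => (hx _ u).symm]
    set P : Perm α := tr p 0 * tr p 1 * (tr p 2 * tr p 3) with hP
    have hPH : P ∈ H := H.mul_mem (hpH 0 1 (by decide)) (hpH 2 3 (by decide))
    have hPF : ∀ f ∈ F, f * (⟨P, hPH⟩ : H) = ⟨P, hPH⟩ * f := by
      refine commute_component hF _ fun g => Subtype.ext ?_
      show Commute P ((g : Perm α) * P * (g : Perm α)⁻¹)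
      have hQ := hfull (hpair (g : Perm α))
      rw [← tr_conj, ← tr_conj, ← tr_conj, ← tr_conj] at hQ
      have hQ' : IsFull (fun a b => (g : Perm α) (p a b)) ((g : Perm α) * P * (g : Perm α)⁻¹) := by
        simpa [hP, mul_assoc] using hQ
      rcases trichotomy hp (hpair (g : Perm α)) H hpH (hconj g) hno le_rfl with h | ⟨-, h2, hblk⟩
      · suffices (g : Perm α) * P * (g : Perm α)⁻¹ = P by rw [this]
        refine Equiv.ext fun x => ?_
        by_cases hx : ∃ i u, (g : Perm α) (p i u) = x
        · obtain ⟨i, u, rfl⟩ := hx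
          rw [hQ'.1]
          by_cases hx' : ∃ j w, p j w = (g : Perm α) (p i u)
          · obtain ⟨j, w, hjw⟩ := hx'
            obtain ⟨v, hv⟩ := h j i ⟨w, u, hjw⟩
            have hu : u = w + v := (hp _ _ _ _ ((g : Perm α).injective (hjw.symm.trans (hv w)))).2
            rw [← hjw, (hfull hp).1, hv, hu, add_right_comm]
          · exfalso
            push Not at hx'
            by_cases hx'' : ∃ j w, p j w = (g : Perm α) (p i (u + 1))
            · obtain ⟨j, w, hjw⟩ := hx''
              obtain ⟨v, hv⟩ := h j i ⟨w, u + 1, hjw⟩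
              refine hx' j (w + 1) ?_
              rw [hv]
              have hu : u + 1 = w + v := (hp _ _ _ _ ((g : Perm α).injective (hjw.symm.trans (hv w)))).2
              rw [add_right_comm, ← hu, fin2_add]
            · push Not at hx''
              exact fin2_ne u (hp _ _ _ _ ((g : Perm α).injective (hunc _ _ hx'' hx'))).2
        · push Not at hx
          rw [hQ'.2 x hx]
          by_cases hx' : ∃ j w, p j w = x
          · exfalso
            -- the pairs of `p` meet pairs of the conjugate, so cover the same points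
            obtain ⟨j, w, rfl⟩ := hx'
            by_cases hm' : ∃ i, Meets p (fun a b => (g : Perm α) (p a b)) j i
            · obtain ⟨i, hi⟩ := hm'
              obtain ⟨v, hv⟩ := h j i hi
              exact hx i (w + v) (hv w).symm
            · push Not at hm'
              have hj : ∀ c a u, (g : Perm α) (p a u) ≠ p j c := fun c a u e =>
                hm' a ⟨c, u, e.symm⟩
              have := hunc ((g : Perm α)⁻¹ (p j w)) ((g : Perm α)⁻¹ (p j (w + 1)))
                (fun a u e => hj w a u (by simp [e]))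
                (fun a u e => hj (w + 1) a u (by simp [e]))
              exact fin2_ne w (hp _ _ _ _ ((g : Perm α)⁻¹.injective this)).2.symm
          · push Not at hx'
            exact ((hfull hp).2 x hx').symm
      · exact full_commute hp (hpair (g : Perm α)) (hfull hp) hQ' h2 hblk
    have hmap : ∀ f ∈ F, ∀ i, ∃ j, ∀ u, ∃ w, (f : Perm α) (p i u) = p j w := by
      intro f hf i
      have hc : ∀ x, (f : Perm α) (P x) = P ((f : Perm α) x) := fun x =>
        congrArg (fun z : H => (z : Perm α) x) (hPF f hf)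
      by_cases hx : ∃ j w, p j w = (f : Perm α) (p i 0)
      · obtain ⟨j, w, hjw⟩ := hx
        refine ⟨j, fun u => ?_⟩
        rcases fin2_cases 0 u with rfl | rfl
        · exact ⟨w, hjw.symm⟩
        · exact ⟨w + 1, by rw [← (hfull hp).1 i 0, hc, ← hjw, (hfull hp).1]⟩
      · exfalso
        push Not at hx
        have h1 := hc (p i 0)
        rw [(hfull hp).1, (hfull hp).2 _ hx] at h1
        exact fin2_ne 0 (hp _ _ _ _ ((f : Perm α).injective h1)).2
    choose π hπ using hmap
    have huniq : ∀ (f : H) (hf : f ∈ F) i j u w, (f : Perm α) (p i u) = p j w → π f hf i = j :=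
      fun f hf i j u w h => by
        obtain ⟨w', hw'⟩ := hπ f hf i u
        exact (hp _ _ _ _ (hw'.symm.trans h)).1
    let φ : F →* Perm (Fin 4) :=
      { toFun := fun f =>
          { toFun := π f.1 f.2
            invFun := π f.1⁻¹ (inv_mem f.2)
            left_inv := fun i => by
              obtain ⟨w, hw⟩ := hπ f.1 f.2 i 0
              exact huniq _ _ _ _ w 0 (by rw [← hw]; simp)
            right_inv := fun i => by
              obtain ⟨w, hw⟩ := hπ f.1⁻¹ (inv_mem f.2) i 0
              exact huniq _ _ _ _ w 0 (by rw [← hw]; simp) }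
        map_one' := Equiv.ext fun i => huniq _ _ _ _ 0 0 rfl
        map_mul' := fun a b => Equiv.ext fun i => by
          obtain ⟨w, hw⟩ := hπ b.1 b.2 i 0
          obtain ⟨w', hw'⟩ := hπ a.1 a.2 (π b.1 b.2 i) w
          refine huniq _ _ _ _ 0 w' ?_
          show (a.1 : Perm α) ((b.1 : Perm α) (p i 0)) = _
          rw [hw, hw']
          rfl }
    haveI : Group.IsSolvable (Perm (Fin 4)) :=
      CfsgLib.StdForm.isSolvable_perm_of_card_le_four (Fin 4) (by simp)
    have hker : F ≤ φ.ker.map F.subtype := by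
      by_contra hle
      -- the image is a perfect solvable group
      haveI : Group.IsSolvable φ.range := inferInstance
      have hperf : ⁅(⊤ : Subgroup F), (⊤ : Subgroup F)⁆ = (⊤ : Subgroup F) := by
        apply Subgroup.map_injective F.subtype_injective
        rw [Subgroup.map_commutator, ← MonoidHom.range_eq_map, Subgroup.range_subtype,
          Components.component_commutator_self hF]
      have hrange : φ.range = ⊥ := by
        by_contra hne
        haveI : Nontrivial φ.range := (Subgroup.nontrivial_iff_ne_bot _).2 hne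
        have h1 : commutator φ.range = ⊤ := by
          have h2 : Subgroup.map φ.rangeRestrict ⊤ = ⊤ :=
            Subgroup.map_top_of_surjective _ φ.rangeRestrict_surjective
          have h3 := congrArg (Subgroup.map φ.rangeRestrict) hperf
          rw [Subgroup.map_commutator, h2] at h3
          exact h3
        exact (Group.IsSolvable.commutator_lt_top_of_nontrivial φ.range).ne h1
      refine hle fun f hf => ⟨⟨f, hf⟩, ?_, rfl⟩
      show φ ⟨f, hf⟩ = 1
      exact Subgroup.mem_bot.1 (hrange ▸ MonoidHom.mem_range.2 ⟨_, rfl⟩)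
    intro f hf i u
    obtain ⟨f', hf', rfl⟩ := hker hf
    obtain ⟨w, hw⟩ := hπ f'.1 f'.2 i u
    have hi : π f'.1 f'.2 i = i := DFunLike.congr_fun (MonoidHom.mem_ker.1 hf') i
    rw [hi] at hw
    exact ⟨w, hw⟩
  · -- all of `H` permutes the pairs
    have hperm : ∀ (g : H) i, ∃ j v, ∀ u, p j u = (g : Perm α) (p i (u + v)) := by
      intro g i
      rcases trichotomy hp (hpair (g : Perm α)) H hpH (hconj g) hno hm with h | ⟨h, -⟩
      swap
      · exact absurd h hm4
      by_cases hx : ∃ j w u, p j w = (g : Perm α) (p i u)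
      · obtain ⟨j, w, u, hjw⟩ := hx
        exact ⟨j, h j i ⟨w, u, hjw⟩⟩
      · push Not at hx
        have := hunc _ _ (fun a b => hx a b 0) (fun a b => hx a b 1)
        exact absurd (hp _ _ _ _ ((g : Perm α).injective this)).2 (by decide)
    choose π v hπ using hperm
    have htr : ∀ (g : H) i, (g : Perm α) * tr p i * (g : Perm α)⁻¹ = tr p (π g i) := fun g i => by
      rw [tr_conj, tr_eq (fun a b => (g : Perm α) (p a b)) i (v g i), tr]
      rw [hπ g i 0, hπ g i 1, zero_add, add_comm]
    intro f hf i u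
    suffices hi : π f i = i by
      refine ⟨u + v f i, ?_⟩
      have := hπ f i (u + v f i)
      rw [hi, show ∀ a b : Fin 2, a + b + b = a by decide] at this
      exact this.symm
    have hkey : ∀ j, j ≠ i → π f i = i ∨ π f i = j := by
      intro j hji
      have hmem := hpH i j hji.symm
      have hc := commute_component hF ⟨_, hmem⟩ (fun g => Subtype.ext ?_) f hf
      · have hc' : (f : Perm α) * (tr p i * tr p j) = tr p i * tr p j * (f : Perm α) :=
          congrArg Subtype.val hc
        obtain hπi := hπ f i 0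
        by_contra hcon
        push Not at hcon
        have h1 := congrArg (fun z : Perm α => z (p i (0 + v f i))) hc'
        simp only [Perm.mul_apply] at h1
        rw [← hπi, tr_apply_ne (i := j) (fun w e => hcon.2 (hp _ _ _ _ e).1),
          tr_apply_ne (i := i) (fun w e => hcon.1 (hp _ _ _ _ e).1),
          tr_apply_ne (i := j) (fun w e => hji (hp _ _ _ _ e).1.symm), tr_apply, hπi] at h1
        exact fin2_ne _ (hp _ _ _ _ ((f : Perm α).injective h1)).2
      · show tr p i * tr p j * ((g : Perm α) * (tr p i * tr p j) * (g : Perm α)⁻¹) =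
          (g : Perm α) * (tr p i * tr p j) * (g : Perm α)⁻¹ * (tr p i * tr p j)
        rw [show (g : Perm α) * (tr p i * tr p j) * (g : Perm α)⁻¹ =
          ((g : Perm α) * tr p i * (g : Perm α)⁻¹) * ((g : Perm α) * tr p j * (g : Perm α)⁻¹) by group,
          htr, htr]
        exact ((tr_commute hp _ _).mul_left (tr_commute hp _ _)).mul_right
          ((tr_commute hp _ _).mul_left (tr_commute hp _ _))
    obtain ⟨j, hj, k, hk, hjk⟩ := Finset.one_lt_card.1
      (by rw [Finset.card_erase_of_mem (Finset.mem_univ i), Finset.card_univ, Fintype.card_fin]; omega :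
        1 < (Finset.univ.erase i).card)
    rw [Finset.mem_erase] at hj hk
    rcases hkey j hj.1 with h | h
    · exact h
    rcases hkey k hk.1 with h' | h'
    · exact h'
    exact absurd (h.symm.trans h') hjk

/-- The degree of `F*` from the order of a 2-subgroup. -/
theorem card_large {n d e : ℕ} (hd : d ≤ n) (hfac : n.factorial.factorization 2 = e + 1)
    (hdvd : 2 ^ e ∣ d.factorial) : n ≤ d + 3 := by
  by_contra h
  have h8 : 8 ∣ (n - d).factorial :=
    (by norm_num [Nat.factorial] : (8 : ℕ) ∣ Nat.factorial 4).trans (Nat.factorial_dvd_factorial (by omega))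
  have h1 : 2 ^ (e + 3) ∣ n.factorial := by
    rw [pow_add]
    exact (Nat.mul_dvd_mul hdvd h8).trans (Nat.factorial_mul_factorial_dvd_factorial hd)
  have := (Nat.prime_two.pow_dvd_iff_le_factorization (Nat.factorial_ne_zero n)).1 h1
  omega

end CfsgLib.PermGen.DoubleTrans
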