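import Cfsg.Agent.Lib.PermGen.DoubleTranspositions

/-!
Overgroups in the symmetric group of a Sylow 2-subgroup of the alternating group.
-/

set_option autoImplicit false
set_option linter.style.haveILetI false

namespace CfsgLib.PermGen.DoubleTrans

open Equiv Equiv.Perm CfsgLib.AltAut CfsgLib.PermGen

theorem main (n : ℕ) (hn : 8 ≤ n) (H : Subgroup (Perm (Fin n)))
    (hF : Cfsg.IsQuasisimple ↥(Cfsg.generalizedFittingSubgroup ↥H))
    (hS : ∃ P : Sylow 2 ↥(alternatingGroup (Fin n)),
      ((P : Subgroup ↥(alternatingGroup (Fin n))).map (alternatingGroup (Fin n)).subtype) ≤ H) :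
    ∃ m : ℕ, (m = n - 3 ∨ m = n - 2 ∨ m = n - 1 ∨ m = n) ∧
      Nonempty (↥(Cfsg.generalizedFittingSubgroup ↥H) ≃* ↥(alternatingGroup (Fin m))) := by
  classical
  haveI : Fact (Nat.Prime 2) := ⟨Nat.prime_two⟩
  set A := alternatingGroup (Fin n) with hA
  obtain ⟨T, hT⟩ := hS
  haveI : Nontrivial (Fin n) := Fin.nontrivial_iff_two_le.2 (by omega)
  let pt : Fin (n / 2) → Fin 2 → Fin n := fun i j =>
    ⟨2 * i.val + j.val, by have := i.isLt; have := j.isLt; omega⟩
  have hpt : IsPairing pt := fun i j u v h => by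
    have h1 : 2 * i.val + u.val = 2 * j.val + v.val := congrArg Fin.val h
    have := u.isLt
    have := v.isLt
    exact ⟨Fin.ext (by omega), Fin.ext (by omega)⟩
  -- the permutations preserving each pair form a 2-group
  let B : Subgroup (Perm (Fin n)) :=
    { carrier := {f | ∀ x : Fin n, (f x).val / 2 = x.val / 2}
      one_mem' := fun _ => rfl
      mul_mem' := fun {f g} hf hg x => (hf (g x)).trans (hg x)
      inv_mem' := fun {f} hf x => by simpa using (hf (f⁻¹ x)).symm }
  have hBA : IsPGroup 2 ↥(B.subgroupOf A) := fun f => by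
    refine ⟨1, Subtype.ext (Subtype.ext (Equiv.ext fun x => ?_))⟩
    have hf : ∀ x : Fin n, (f.1.1 x).val / 2 = x.val / 2 := f.2
    show ((f.1.1 ^ (2 ^ 1)) x) = x
    rw [pow_one, pow_two, Perm.mul_apply]
    apply Fin.ext
    have h1 := hf x
    have h2 := hf (f.1.1 x)
    by_cases hx : f.1.1 x = x
    · rw [hx, hx]
    · have h3 : f.1.1 (f.1.1 x) ≠ f.1.1 x := fun e => hx (f.1.1.injective e)
      have hx' := fun e => hx (Fin.ext e)
      have h3' := fun e => h3 (Fin.ext e)
      omega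
  obtain ⟨Q, hQ⟩ := hBA.exists_le_sylow
  obtain ⟨g, hg⟩ := MulAction.exists_smul_eq A Q T
  set p : Fin (n / 2) → Fin 2 → Fin n := fun i u => (g : Perm (Fin n)) (pt i u) with hp_def
  have hp : IsPairing p := fun i j u v h => hpt i j u v ((g : Perm (Fin n)).injective h)
  have hunc : ∀ x y, (∀ i u, p i u ≠ x) → (∀ i u, p i u ≠ y) → x = y := by
    have hval : ∀ x, (∀ i u, p i u ≠ x) → (((g : Perm (Fin n))⁻¹ x).val = 2 * (n / 2)) := by
      intro x hx
      set z := (g : Perm (Fin n))⁻¹ x with hz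
      have := z.isLt
      by_contra hne
      refine hx ⟨z.val / 2, by omega⟩ ⟨z.val % 2, by omega⟩ ?_
      have hzz : pt ⟨z.val / 2, by omega⟩ ⟨z.val % 2, by omega⟩ = z :=
        Fin.ext (by show 2 * (z.val / 2) + z.val % 2 = z.val; omega)
      show (g : Perm (Fin n)) (pt _ _) = x
      rw [hzz, hz]
      simp
    intro x y hx hy
    exact (g : Perm (Fin n))⁻¹.injective (Fin.ext ((hval x hx).trans (hval y hy).symm))
  have hpH : ∀ i j, i ≠ j → tr p i * tr p j ∈ H := by
    intro i j hij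
    have hB : ∀ i, tr pt i ∈ B := fun i x => by
      by_cases hx : ∃ u, x = pt i u
      · obtain ⟨u, rfl⟩ := hx
        rw [tr_apply]
        show (2 * i.val + (u + 1).val) / 2 = (2 * i.val + u.val) / 2
        have := u.isLt
        have := (u + 1).isLt
        omega
      · push Not at hx
        rw [tr_apply_ne hx]
    have hne : ∀ i, pt i 0 ≠ pt i 1 := fun i e => absurd (hpt _ _ _ _ e).2 (by decide)
    have hmemA : tr pt i * tr pt j ∈ A := by
      rw [hA, mem_alternatingGroup, map_mul, tr, tr, sign_swap (hne i), sign_swap (hne j)]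
      rfl
    have hmemQ : (⟨_, hmemA⟩ : A) ∈ (Q : Subgroup A) :=
      hQ (mul_mem (hB i) (hB j))
    have hmemT : g * ⟨_, hmemA⟩ * g⁻¹ ∈ (T : Subgroup A) := by
      rw [← hg]
      exact ⟨_, hmemQ, rfl⟩
    have := hT ⟨_, hmemT, rfl⟩
    rw [hp_def, ← tr_conj pt (g : Perm (Fin n)) i, ← tr_conj pt (g : Perm (Fin n)) j]
    simpa [mul_assoc] using this
  set F := Cfsg.generalizedFittingSubgroup ↥H with hFdef
  haveI hFn : F.Normal := Components.genFitting_normal_inst
  have hFc : Cfsg.IsComponent F := ⟨Subgroup.Normal.isSubnormal hFn, hF⟩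
  obtain ⟨x, hxH, hx⟩ := exists_threeCycle hp (by omega) hunc H hpH hFc
  obtain ⟨Δ, h5, -, hFΔ⟩ := genFitting_equiv_alternating hF hx hxH
  -- `H` acts faithfully on `Δ`
  have hinv : ∀ h ∈ H, ∀ z ∈ Δ, h z ∈ Δ := by
    intro h hh z hz
    obtain ⟨b, hb, c, hc, hbc⟩ := Finset.one_lt_card.1
      (by rw [Finset.card_erase_of_mem hz]; omega : 1 < (Δ.erase z).card)
    rw [Finset.mem_erase] at hb hc
    have h3 := cyc_isThreeCycle (Ne.symm hb.1) (Ne.symm hc.1) hbc
    have hmem : cyc z b c ∈ F.map H.subtype := by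
      rw [hFΔ]
      refine mem_altOn h3 ?_
      rw [cyc_mem_support (Ne.symm hb.1) (Ne.symm hc.1) hbc]
      simp [Finset.insert_subset_iff, hz, hb.2, hc.2]
    obtain ⟨f, hf, hfe⟩ := hmem
    have hmem2 : h * cyc z b c * h⁻¹ ∈ altOn Δ := by
      rw [← hFΔ]
      refine ⟨⟨h, hh⟩ * f * ⟨h, hh⟩⁻¹, hFn.conj_mem f hf ⟨h, hh⟩, ?_⟩
      rw [← hfe]
      rfl
    by_contra hn'
    have := altOn_fix hmem2 hn'
    rw [cyc_conj, cyc_apply_fst (fun e => hb.1 (h.injective e).symm)
      (fun e => hc.1 (h.injective e).symm)] at this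
    exact hb.1 (h.injective this)
  have hiff : ∀ h ∈ H, ∀ z, h z ∈ Δ ↔ z ∈ Δ := fun h hh z =>
    ⟨fun hz => by simpa using hinv h⁻¹ (inv_mem hh) _ hz, fun hz => hinv h hh z hz⟩
  let ρ : H →* Perm {z // z ∈ Δ} :=
    { toFun := fun h => Equiv.Perm.subtypePerm (h : Perm (Fin n)) (hiff h h.2)
      map_one' := Equiv.ext fun z => rfl
      map_mul' := fun a b => Equiv.ext fun z => rfl }
  have hρ : Function.Injective ρ := by
    rw [injective_iff_map_eq_one]
    intro h hh
    have hfix : ∀ z ∈ Δ, (h : Perm (Fin n)) z = z := fun z hz =>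
      congrArg Subtype.val (DFunLike.congr_fun hh (⟨z, hz⟩ : {z // z ∈ Δ}))
    have hc : h ∈ Subgroup.centralizer (F : Set H) := by
      rw [Subgroup.mem_centralizer_iff]
      intro f hf
      have hfA : (f : Perm (Fin n)) ∈ altOn Δ := hFΔ ▸ ⟨f, hf, rfl⟩
      refine Subtype.ext ?_
      show (f : Perm (Fin n)) * h = h * f
      refine (Perm.Disjoint.commute fun z => ?_).eq
      by_cases hz : z ∈ Δ
      · exact Or.inr (hfix z hz)
      · exact Or.inl (altOn_fix hfA hz)
    have hhA : (h : Perm (Fin n)) ∈ altOn Δ := hFΔ ▸ ⟨h, Components.centralizer_genFitting_le hc, rfl⟩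
    refine Subtype.ext (Equiv.ext fun z => ?_)
    by_cases hz : z ∈ Δ
    · exact hfix z hz
    · exact altOn_fix hhA hz
  have hle : Δ.card ≤ n := (Finset.card_le_univ Δ).trans (le_of_eq (Fintype.card_fin n))
  have hcard : n ≤ Δ.card + 3 := by
    refine card_large hle (e := (Nat.card A).factorization 2) ?_ ?_
    · have h2 := two_mul_card_alternatingGroup (α := Fin n)
      rw [Fintype.card_perm, Fintype.card_fin, ← Nat.card_eq_fintype_card] at h2
      rw [← h2, Nat.factorization_mul (by omega) (Nat.card_pos).ne', Finsupp.add_apply,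
        Nat.prime_two.factorization_self, add_comm]
    · rw [← T.card_eq_multiplicity, ← Subgroup.card_map_of_injective A.subtype_injective]
      have h2 := (Subgroup.card_dvd_of_le hT).trans (Subgroup.card_dvd_of_injective ρ hρ)
      rwa [Nat.card_perm, Nat.card_eq_fintype_card (α := {z // z ∈ Δ}), Fintype.card_coe] at h2
  refine ⟨Δ.card, by omega, ?_⟩
  obtain ⟨e⟩ := altOn_equiv Δ
  exact ⟨(((F.equivMapOfInjective _ H.subtype_injective).trans
    (MulEquiv.subgroupCongr hFΔ)).trans e.symm).trans (Equiv.altCongrHom Δ.equivFin)⟩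

end CfsgLib.PermGen.DoubleTrans
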