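import Mathlib.GroupTheory.GroupAction.Quotient
import Mathlib.GroupTheory.Perm.Basic
import Mathlib.GroupTheory.Perm.Support
import Mathlib.GroupTheory.OrderOfElement
import Mathlib.Data.ZMod.QuotientGroup
import Mathlib.Data.Nat.Prime.Basic
import Mathlib.LinearAlgebra.Dimension.Constructions
import Mathlib.LinearAlgebra.FiniteDimensional.Lemmas
import Mathlib.LinearAlgebra.Pi
import Mathlib.Data.Rat.Defs

/-!
Ree's inequality for generating triples of transitive permutation groups, by Scott's linear algebra
argument: if `x * y * z = 1` and `⟨x, y⟩` is transitive on `n` points then the numbers of cycles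
(fixed points included) of `x`, `y`, `z` sum to at most `n + 2`.
-/

set_option autoImplicit false

namespace CfsgLib.PermGen

open Module

variable {α : Type*}

/-- The permutation operator on functions: `v ↦ v ∘ g⁻¹`. -/
noncomputable def permOp (g : Equiv.Perm α) : (α → ℚ) →ₗ[ℚ] (α → ℚ) :=
  LinearMap.funLeft ℚ ℚ (⇑g⁻¹)

/-- The number of cycles of `g`, fixed points included. -/
noncomputable def cycleNum (g : Equiv.Perm α) : ℕ :=
  Nat.card (MulAction.orbitRel.Quotient (Subgroup.zpowers g) α)

theorem permOp_apply (g : Equiv.Perm α) (v : α → ℚ) (a : α) : permOp g v a = v (g⁻¹ a) := rfl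

theorem permOp_mul (g h : Equiv.Perm α) (v : α → ℚ) : permOp (g * h) v = permOp g (permOp h v) := by
  funext a; simp [permOp_apply, mul_inv_rev]

theorem permOp_single [DecidableEq α] (g : Equiv.Perm α) (b : α) :
    permOp g (Pi.single b 1) = Pi.single (g b) 1 := by
  funext a
  rw [permOp_apply]
  rcases eq_or_ne a (g b) with rfl | h
  · simp
  · rw [Pi.single_eq_of_ne h, Pi.single_eq_of_ne]
    intro e
    exact h (by rw [← e]; simp)

theorem cycleNum_le_finrank_fix [Fintype α] (g : Equiv.Perm α) :
    cycleNum g ≤ finrank ℚ (LinearMap.ker (permOp g - LinearMap.id)) := by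
  classical
  let Q := MulAction.orbitRel.Quotient (Subgroup.zpowers g) α
  haveI : Fintype Q := Fintype.ofFinite Q
  let mk : α → Q := Quotient.mk''
  let f : (Q → ℚ) →ₗ[ℚ] LinearMap.ker (permOp g - LinearMap.id) :=
    LinearMap.codRestrict _ (LinearMap.funLeft ℚ ℚ mk) fun w => by
      rw [LinearMap.mem_ker, LinearMap.sub_apply, LinearMap.id_apply, sub_eq_zero]
      funext a
      rw [permOp_apply]
      show w (mk (g⁻¹ a)) = w (mk a)
      congr 1
      exact Quotient.sound' ⟨⟨g⁻¹, inv_mem (Subgroup.mem_zpowers g)⟩, rfl⟩
  have hf : Function.Injective f := fun u v h =>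
    LinearMap.funLeft_injective_of_surjective ℚ ℚ mk Quotient.mk''_surjective
      (congrArg Subtype.val h)
  have := LinearMap.finrank_le_finrank_of_injective hf
  rwa [finrank_pi, ← Nat.card_eq_fintype_card] at this

theorem finrank_range_add [Fintype α] (g : Equiv.Perm α) :
    finrank ℚ (LinearMap.range (permOp g - LinearMap.id)) + cycleNum g ≤ Fintype.card α := by
  have h := LinearMap.finrank_range_add_finrank_ker (permOp g - LinearMap.id)
  rw [finrank_pi] at h
  have := cycleNum_le_finrank_fix g
  omega

/-- Ree's inequality. -/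
theorem ree_inequality [Fintype α] {x y z : Equiv.Perm α} (hxyz : x * y * z = 1)
    (htrans : ∀ a b : α, ∃ g ∈ Subgroup.closure ({x, y} : Set (Equiv.Perm α)), g a = b) :
    cycleNum x + cycleNum y + cycleNum z ≤ Fintype.card α + 2 := by
  classical
  set n := Fintype.card α
  let Rx := LinearMap.range (permOp x - LinearMap.id)
  let Ry := LinearMap.range (permOp y - LinearMap.id)
  let Rz := LinearMap.range (permOp z - LinearMap.id)
  let β : Rx × Ry × Rz →ₗ[ℚ] (α → ℚ) :=
    LinearMap.coprod Rx.subtype
      (LinearMap.coprod ((permOp x).comp Ry.subtype) ((permOp (x * y)).comp Rz.subtype))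
  let α' : (α → ℚ) →ₗ[ℚ] Rx × Ry × Rz :=
    LinearMap.prod (permOp x - LinearMap.id).rangeRestrict
      (LinearMap.prod (permOp y - LinearMap.id).rangeRestrict
        (permOp z - LinearMap.id).rangeRestrict)
  have hcomp : ∀ v, β (α' v) = 0 := by
    intro v
    show (permOp x v - v) + (permOp x (permOp y v - v) + permOp (x * y) (permOp z v - v)) = 0
    have h1 : permOp (x * y) (permOp z v) = v := by
      rw [← permOp_mul, hxyz]; rfl
    rw [map_sub, map_sub, h1, permOp_mul]
    abel
  -- the image is a hyperplane at least
  have hxW : ∀ v, permOp x v - v ∈ LinearMap.range β := fun v =>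
    ⟨(⟨_, v, rfl⟩, 0, 0), by
      show (permOp x v - v) + (permOp x (0 : α → ℚ) + permOp (x * y) (0 : α → ℚ)) = _
      simp⟩
  have hyW : ∀ v, permOp y v - v ∈ LinearMap.range β := fun v => by
    have h2 : permOp x (permOp y v - v) ∈ LinearMap.range β :=
      ⟨(0, ⟨_, v, rfl⟩, 0), by simp [β, Ry, LinearMap.coprod_apply]⟩
    have e : permOp y v - v = permOp x (permOp y v - v) - (permOp x (permOp y v - v) - (permOp y v - v)) := by
      abel
    rw [e]
    exact sub_mem h2 (hxW _)
  have htop : ∀ a : α, LinearMap.range β ⊔ Submodule.span ℚ {(Pi.single a 1 : α → ℚ)} = ⊤ := by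
    intro a
    have hS : ∀ g ∈ Subgroup.closure ({x, y} : Set (Equiv.Perm α)),
        ∀ v : α → ℚ, permOp g v - v ∈ LinearMap.range β := by
      intro g hg
      induction hg using Subgroup.closure_induction with
      | mem g hg => rcases hg with rfl | rfl <;> [exact hxW; exact hyW]
      | one =>
        intro v
        rw [show permOp (1 : Equiv.Perm α) v = v from rfl, sub_self]
        exact zero_mem _
      | mul g h _ _ ihg ihh =>
        intro v
        have e : permOp (g * h) v - v =
            (permOp g (permOp h v) - permOp h v) + (permOp h v - v) := by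
          rw [permOp_mul]; abel
        rw [e]
        exact add_mem (ihg _) (ihh _)
      | inv g _ ih =>
        intro v
        have e : permOp g (permOp g⁻¹ v) = v := by rw [← permOp_mul, mul_inv_cancel]; rfl
        have := neg_mem (ih (permOp g⁻¹ v))
        rwa [e, neg_sub] at this
    rw [eq_top_iff, ← (Pi.basisFun ℚ α).span_eq, Submodule.span_le]
    rintro _ ⟨b, rfl⟩
    obtain ⟨g, hg, rfl⟩ := htrans a b
    rw [Pi.basisFun_apply, ← permOp_single, SetLike.mem_coe, ← sub_add_cancel (permOp g (Pi.single a 1)) (Pi.single a 1)]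
    exact Submodule.add_mem_sup (hS g hg _) (Submodule.mem_span_singleton_self _)
  rcases isEmpty_or_nonempty α with hα | ⟨⟨a⟩⟩
  · have : ∀ g : Equiv.Perm α, cycleNum g = 0 := fun g => by
      haveI : IsEmpty (MulAction.orbitRel.Quotient (Subgroup.zpowers g) α) :=
        ⟨fun q => Quotient.inductionOn' q hα.elim⟩
      exact Nat.card_of_isEmpty
    simp [this]
  have hW : n ≤ finrank ℚ (LinearMap.range β) + 1 := by
    have := Submodule.finrank_add_le_finrank_add_finrank (LinearMap.range β)
      (Submodule.span ℚ {(Pi.single a 1 : α → ℚ)})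
    rw [htop a, finrank_top, finrank_pi] at this
    have h1 : finrank ℚ (Submodule.span ℚ {(Pi.single a 1 : α → ℚ)}) ≤ 1 := by
      simpa using finrank_span_le_card ({(Pi.single a 1 : α → ℚ)} : Set (α → ℚ))
    omega
  have hK : n ≤ finrank ℚ (LinearMap.ker β) + 1 := by
    have hle : LinearMap.range α' ≤ LinearMap.ker β := by
      rintro _ ⟨v, rfl⟩; exact hcomp v
    have hker : LinearMap.ker α' ≤ Submodule.span ℚ {(fun _ => 1 : α → ℚ)} := by
      intro v hv
      rw [LinearMap.mem_ker, Prod.ext_iff, Prod.ext_iff] at hv
      have hvx : permOp x v = v := sub_eq_zero.1 (congrArg Subtype.val hv.1)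
      have hvy : permOp y v = v := sub_eq_zero.1 (congrArg Subtype.val hv.2.1)
      have hg : ∀ g ∈ Subgroup.closure ({x, y} : Set (Equiv.Perm α)), permOp g v = v := by
        intro g hg
        induction hg using Subgroup.closure_induction with
        | mem g hg => rcases hg with rfl | rfl <;> assumption
        | one => rfl
        | mul g h _ _ ihg ihh => rw [permOp_mul, ihh, ihg]
        | inv g _ ih =>
          conv_lhs => rw [← ih, ← permOp_mul, inv_mul_cancel]
          rfl
      rw [Submodule.mem_span_singleton]
      refine ⟨v a, ?_⟩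
      funext b
      obtain ⟨g, hg', hgb⟩ := htrans b a
      have := congrFun (hg g hg') (g b)
      rw [permOp_apply, show g⁻¹ (g b) = b from g.symm_apply_apply b, hgb] at this
      simp [this]
    have h1 := LinearMap.finrank_range_add_finrank_ker α'
    have h2 := (Submodule.finrank_mono hker).trans (finrank_span_le_card _)
    have h3 := Submodule.finrank_mono hle
    rw [finrank_pi] at h1
    simp at h2
    omega
  have hsum := LinearMap.finrank_range_add_finrank_ker β
  rw [finrank_prod, finrank_prod] at hsum
  have bx := finrank_range_add x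
  have bY := finrank_range_add y
  have bz := finrank_range_add z
  simp only [Rx, Ry, Rz] at hsum hW hK
  omega

/-- For `g ^ p = 1` with `p` prime, fixed points bound the number of cycles from below. -/
theorem le_prime_mul_cycleNum [Fintype α] [DecidableEq α] (g : Equiv.Perm α) {p : ℕ}
    (hp : p.Prime) (hg : orderOf g = p) :
    Fintype.card α + (p - 1) * (Finset.univ.filter fun a => g a = a).card ≤ p * cycleNum g := by
  classical
  haveI : Fintype (Subgroup.zpowers g) := Fintype.ofFinite _
  haveI : Fintype (MulAction.orbitRel.Quotient (Subgroup.zpowers g) α) := Fintype.ofFinite _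
  have hB := MulAction.sum_card_fixedBy_eq_card_orbits_mul_card_group (Subgroup.zpowers g) α
  have hcard : Fintype.card (Subgroup.zpowers g) = p := by rw [Fintype.card_eq_nat_card, Nat.card_zpowers, hg]
  rw [hcard] at hB
  have hlow : ∀ h : Subgroup.zpowers g, (Finset.univ.filter fun a => g a = a).card ≤
      Fintype.card (MulAction.fixedBy α h) := by
    intro h
    obtain ⟨k, hk⟩ := Subgroup.mem_zpowers_iff.1 h.2
    rw [← Fintype.card_coe]
    refine Fintype.card_le_of_injective (fun a => ⟨a.1, ?_⟩) (fun a b e =>
      Subtype.ext (Subtype.mk.inj e))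
    have ha : g a.1 = a.1 := (Finset.mem_filter.1 a.2).2
    show (h : Equiv.Perm α) a.1 = a.1
    rw [← hk]
    exact Equiv.Perm.zpow_apply_eq_self_of_apply_eq_self ha k
  have h1 : Fintype.card (MulAction.fixedBy α (1 : Subgroup.zpowers g)) = Fintype.card α :=
    Fintype.card_of_subtype Finset.univ fun a => iff_of_true (Finset.mem_univ a) (one_smul _ a)
  rw [← Finset.add_sum_erase _ _ (Finset.mem_univ (1 : Subgroup.zpowers g)), h1] at hB
  have h2 := Finset.card_nsmul_le_sum (Finset.univ.erase (1 : Subgroup.zpowers g))
    (fun h => Fintype.card (MulAction.fixedBy α h)) _ (fun h _ => hlow h)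
  rw [Finset.card_erase_of_mem (Finset.mem_univ _), Finset.card_univ, hcard, smul_eq_mul] at h2
  have h3 : p * cycleNum g = Fintype.card (Quotient (MulAction.orbitRel (Subgroup.zpowers g) α)) * p := by
    rw [cycleNum, Nat.card_eq_fintype_card, mul_comm]
  omega

end CfsgLib.PermGen
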