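import Cfsg.Prelude.Def_Spor_Mathieu
import Cfsg.Agent.Lib.Golay.Basic
import Cfsg.Agent.Lib.PermGen.Scott
import Cfsg.Agent.Lib.PermGen.M23Data
import Mathlib.GroupTheory.Perm.Cycle.Type
import Mathlib.GroupTheory.Sylow

/-!
Generation of M23 by two elements of prime order with product of prime order. The order of M23 is a
hypothesis here.
-/

set_option autoImplicit false

namespace CfsgLib.PermGen.M23

open Cfsg CfsgLib.Comp CfsgLib.Golay
open scoped Pointwise

/-- The 24 points numbered by their bit positions. -/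
def eqv : GolayPt ≃ Fin 24 where
  toFun a := ⟨bit a, bit_lt a⟩
  invFun i := Golay.pt i
  left_inv a := pt_bit a
  right_inv i := Fin.ext (bit_pt i.2)

theorem eqv_none : eqv none = 23 := by decide

/-- Transport of permutations to `Fin 24`. -/
def tr : Equiv.Perm GolayPt ≃* Equiv.Perm (Fin 24) := Equiv.permCongrHom eqv

theorem tr_apply (g : Equiv.Perm GolayPt) (i : Fin 24) : tr g i = eqv (g (eqv.symm i)) := rfl

/-- M23 as permutations of `Fin 24`. -/
def H : Subgroup (Equiv.Perm (Fin 24)) := Spor.M23.map tr.toMonoidHom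

theorem mem_H {g : Equiv.Perm (Fin 24)} : g ∈ H ↔ tr.symm g ∈ Spor.M23 := Subgroup.mem_map_equiv

/-- The image of the low `k` bits of a mask under a coded permutation. -/
noncomputable def imgK (p m k : ℕ) : ℕ :=
  Nat.rec 0 (fun i ih => Nat.lor ih (bif m.testBit i then Nat.shiftLeft 1 (PermCode.get p i) else 0)) k

/-- The image of a mask under a coded permutation. -/
noncomputable def imgMask (p m : ℕ) : ℕ := imgK p m 24

/-- A test for membership of M23. -/
noncomputable def inM23 (p : ℕ) : Bool :=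
  PermCode.okb 24 p && Nat.beq (PermCode.get p 23) 23 &&
    PermCode.allLt 12 (fun i => memb (imgMask p (basis.getD i 0)))

theorem imgK_succ (p m k : ℕ) : imgK p m (k + 1) =
    imgK p m k ||| (bif m.testBit k then Nat.shiftLeft 1 (PermCode.get p k) else 0) := rfl

theorem testBit_imgMask_aux (p m j : ℕ) : ∀ k : ℕ,
    (imgK p m k).testBit j = true ↔ ∃ i < k, m.testBit i = true ∧ PermCode.get p i = j := by
  intro k
  induction k with
  | zero => simp [imgK]
  | succ k ih =>
    rw [imgK_succ, Nat.testBit_or, Bool.or_eq_true, ih]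
    constructor
    · rintro (⟨i, hi, h⟩ | h)
      · exact ⟨i, by omega, h⟩
      · cases hm : m.testBit k
        · simp [hm] at h
        · refine ⟨k, by omega, hm, ?_⟩
          rw [hm] at h
          simp only [cond_true] at h
          rw [show Nat.shiftLeft 1 (PermCode.get p k) = 2 ^ PermCode.get p k by
            show 1 <<< PermCode.get p k = _; rw [Nat.one_shiftLeft], Nat.testBit_two_pow] at h
          simpa using h
    · rintro ⟨i, hi, hm, rfl⟩
      rcases Nat.lt_succ_iff_lt_or_eq.1 hi with hi | rfl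
      · exact Or.inl ⟨i, hi, hm, rfl⟩
      · refine Or.inr ?_
        rw [hm]
        show (1 <<< PermCode.get p i).testBit (PermCode.get p i) = true
        rw [Nat.one_shiftLeft, Nat.testBit_two_pow]; simp

theorem val_bit {p : ℕ} (h : PermCode.Ok 24 p) (b : GolayPt) :
    bit (tr.symm (PermCode.val 24 p) b) = PermCode.get p (bit b) := by
  have e := tr_apply (tr.symm (PermCode.val 24 p)) (eqv b)
  rw [MulEquiv.apply_symm_apply, Equiv.symm_apply_apply] at e
  exact (congrArg Fin.val e.symm).trans (PermCode.val_apply h _)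

theorem testBit_img {p : ℕ} (h : PermCode.Ok 24 p) (m : ℕ) (b : GolayPt) (n : ℕ) (hn : n = 24) :
    (imgK p m n).testBit (PermCode.get p (bit b)) = m.testBit (bit b) := by
  rw [Bool.eq_iff_iff, testBit_imgMask_aux]
  constructor
  · rintro ⟨i, hi, hm, e⟩
    rwa [← h.2 i (bit b) (hn ▸ hi) (bit_lt b) e]
  · exact fun hm => ⟨bit b, hn ▸ bit_lt b, hm, rfl⟩

theorem toWord_imgMask {p : ℕ} (h : PermCode.Ok 24 p) (m : ℕ) :
    toWord (imgMask p m) = fun a => toWord m ((tr.symm (PermCode.val 24 p))⁻¹ a) := by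
  funext a
  have hba : tr.symm (PermCode.val 24 p) ((tr.symm (PermCode.val 24 p))⁻¹ a) = a := Equiv.apply_symm_apply _ a
  generalize hb : (tr.symm (PermCode.val 24 p))⁻¹ a = b at hba
  have key := testBit_img h m b 24 rfl
  rw [← val_bit h b, hba] at key
  unfold toWord imgMask
  rw [key]

theorem smul_support {α : Type*} [Fintype α] [DecidableEq α] (g : Equiv.Perm α) (w : α → ZMod 2) :
    g • support₂ w = support₂ (LinearMap.funLeft (ZMod 2) (ZMod 2) (⇑g⁻¹) w) := by
  ext a
  rw [← Finset.inv_smul_mem_iff]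
  simp only [support₂, Finset.mem_filter, Finset.mem_univ, true_and]
  simp [LinearMap.funLeft_apply]

theorem setSystem_fixed {α : Type*} [Fintype α] [DecidableEq α] (g : Equiv.Perm α) (S : Set (Finset α))
    (h : g • S ⊆ S) : g ∈ setSystemAut S := by
  rw [setSystemAut, MulAction.mem_stabilizer_iff]
  exact Set.eq_of_subset_of_ncard_le h (by rw [Set.ncard_smul_set]) (Set.toFinite _)

theorem supports_closed {α : Type*} [Fintype α] [DecidableEq α] (C : Submodule (ZMod 2) (α → ZMod 2)) (g : Equiv.Perm α)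
    (h : ∀ w ∈ C, LinearMap.funLeft (ZMod 2) (ZMod 2) (⇑g⁻¹) w ∈ C) :
    g ∈ setSystemAut (supports (C : Set (α → ZMod 2))) := by
  apply setSystem_fixed
  rintro _ ⟨_, ⟨w, hw, rfl⟩, rfl⟩
  exact ⟨_, h w hw, (smul_support g w).symm⟩

theorem hle' (g : Equiv.Perm GolayPt)
    (hg : ∀ b ∈ basis, (fun a => toWord b (g⁻¹ a)) ∈ golayCode) :
    ∀ w ∈ golayCode, LinearMap.funLeft (ZMod 2) (ZMod 2) (⇑g⁻¹) w ∈ golayCode := by
  intro w hw
  obtain ⟨x, -, hx⟩ := mem_golay_iff.1 hw
  have h1 : toWord (comb x) ∈ Submodule.comap (LinearMap.funLeft (ZMod 2) (ZMod 2) (⇑g⁻¹)) golayCode :=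
    toWord_comb_mem_of (fun b hb => Submodule.mem_comap.2 (hg b hb)) x
  rw [hx] at h1
  exact Submodule.mem_comap.1 h1

theorem mem_M24_of_words (g : Equiv.Perm GolayPt)
    (hg : ∀ b ∈ basis, (fun a => toWord b (g⁻¹ a)) ∈ golayCode) : g ∈ M24 :=
  supports_closed golayCode g (hle' g hg)

theorem val_mem_H {p : ℕ} (h : inM23 p = true) : PermCode.val 24 p ∈ H := by
  simp only [inM23, Bool.and_eq_true] at h
  obtain ⟨⟨hok, h23⟩, hb⟩ := h
  have hok' := PermCode.ok_of_okb hok
  rw [mem_H]
  refine ⟨mem_M24_of_words _ ?_, ?_⟩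
  · intro b hbm
    rw [← toWord_imgMask hok']
    obtain ⟨i, hi, rfl⟩ := List.mem_iff_getElem.1 hbm
    have := PermCode.allLt_spec hb i hi
    rw [List.getD_eq_getElem _ _ hi] at this
    rw [memb, beq_iff_eq] at this
    rw [← this]
    exact toWord_comb_mem _
  · show tr.symm (PermCode.val 24 p) none = none
    apply eqv.injective
    have e := tr_apply (tr.symm (PermCode.val 24 p)) (eqv none)
    rw [MulEquiv.apply_symm_apply, Equiv.symm_apply_apply] at e
    rw [← e, eqv_none]
    exact Fin.ext ((PermCode.val_apply hok' _).trans (Nat.eq_of_beq_eq_true h23))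

theorem data_mem :
    (PermCode.allLt 2 (fun i => inM23 (M23Data.m23Gens.getD i 0)) &&
      (M23Data.syl2Gens ++ M23Data.syl3Gens).all inM23 &&
      M23Data.rows.all (fun r => r.2.2.2.1.all inM23)) = true := by
  decide +kernel

theorem card_H (hcard : Nat.card Spor.M23 = 10200960) : Nat.card H = 10200960 := by
  rw [H, Subgroup.card_map_of_injective (MulEquiv.injective _), hcard]

theorem span_gens (hcard : Nat.card Spor.M23 = 10200960) :
    PermCode.span 24 M23Data.m23Gens = H := by
  have h := data_mem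
  simp only [Bool.and_eq_true] at h
  apply Subgroup.eq_of_le_of_card_ge
  · rw [PermCode.span, Subgroup.closure_le]
    rintro _ ⟨s, hs, rfl⟩
    obtain ⟨i, hi, rfl⟩ := List.mem_iff_getElem.1 hs
    have := PermCode.allLt_spec h.1.1 i hi
    rw [List.getD_eq_getElem _ _ hi] at this
    exact val_mem_H this
  · rw [card_H hcard, M23Data.m23_card]

/-! ### Fixed points -/

/-- The number of fixed points among the first `k` points. -/
noncomputable def fixK (p k : ℕ) : ℕ :=
  Nat.rec 0 (fun i ih => Nat.add ih (bif Nat.beq (PermCode.get p i) i then 1 else 0)) k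

/-- The number of fixed points among the first 23 points. -/
noncomputable def fixCount (p : ℕ) : ℕ := fixK p 23

theorem fixK_succ (p k : ℕ) :
    fixK p (k + 1) = fixK p k + (bif Nat.beq (PermCode.get p k) k then 1 else 0) := rfl

/-- The elements of M23 on the 23 points. -/
abbrev Pt23 : Type := {a : GolayPt // a ≠ none}

theorem fix_none {g : Equiv.Perm GolayPt} (hg : g ∈ Spor.M23) : g none = none := hg.2

/-- The action of M23 on its 23 points. -/
def act23 : Spor.M23 →* Equiv.Perm Pt23 where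
  toFun g := (g : Equiv.Perm GolayPt).subtypePerm (fun a => by
    rw [Ne, Ne, not_iff_not]
    constructor
    · intro h
      exact (g : Equiv.Perm GolayPt).injective (h.trans (fix_none g.2).symm)
    · rintro rfl; exact fix_none g.2)
  map_one' := by ext; rfl
  map_mul' _ _ := by ext; rfl

theorem act23_apply (g : Spor.M23) (a : Pt23) :
    (act23 g a : GolayPt) = (g : Equiv.Perm GolayPt) a := rfl

theorem act23_injective : Function.Injective act23 := by
  intro g h e
  apply Subtype.ext
  apply Equiv.ext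
  intro a
  by_cases ha : a = none
  · rw [ha, fix_none g.2, fix_none h.2]
  · exact congrArg (fun σ : Equiv.Perm Pt23 => (σ ⟨a, ha⟩ : GolayPt)) e

/-- Fixed points on the 23 points. -/
def fix23 (g : Spor.M23) : ℕ := (Finset.univ.filter fun a : Pt23 => act23 g a = a).card

theorem fix23_conj (g h : Spor.M23) : fix23 (h * g * h⁻¹) = fix23 g := by
  symm
  apply Finset.card_equiv (act23 h)
  intro a
  simp [map_mul, map_inv]

theorem fix23_code (g : Spor.M23) (p : ℕ) (hok : PermCode.Ok 24 p)
    (hg : tr (g : Equiv.Perm GolayPt) = PermCode.val 24 p) :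
    fix23 g = (Finset.range 23).sum fun i => if PermCode.get p i = i then 1 else 0 := by
  rw [Finset.sum_boole, Nat.cast_id, fix23]
  refine Finset.card_bij (fun a _ => bit a.1) ?_ ?_ ?_
  · intro a ha
    have ha' : (g : Equiv.Perm GolayPt) a.1 = a.1 := congrArg Subtype.val (Finset.mem_filter.1 ha).2
    have e := congrArg (fun σ => ((σ (eqv a.1) : Fin 24) : ℕ)) hg
    simp only [tr_apply, Equiv.symm_apply_apply, ha'] at e
    rw [PermCode.val_apply hok] at e
    refine Finset.mem_filter.2 ⟨Finset.mem_range.2 ?_, e.symm⟩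
    have h1 := bit_lt a.1
    rcases a with ⟨_ | x, hx⟩
    · exact absurd rfl hx
    · exact ZMod.val_lt x
  · intro a _ b _ h
    exact Subtype.ext (bit_injective h)
  · intro i hi
    obtain ⟨hi, hf⟩ := Finset.mem_filter.1 hi
    rw [Finset.mem_range] at hi
    have hne : Golay.pt i ≠ none := by simp [Golay.pt, hi]
    refine ⟨⟨Golay.pt i, hne⟩, ?_, bit_pt (by omega)⟩
    refine Finset.mem_filter.2 ⟨Finset.mem_univ _, Subtype.ext (eqv.injective ?_)⟩
    show eqv ((g : Equiv.Perm GolayPt) (eqv.symm ⟨i, by omega⟩)) = eqv (eqv.symm ⟨i, by omega⟩)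
    rw [← tr_apply, hg, Equiv.apply_symm_apply]
    exact Fin.ext ((PermCode.val_apply hok _).trans hf)

theorem fixCount_eq (p : ℕ) :
    fixCount p = (Finset.range 23).sum fun i => if PermCode.get p i = i then 1 else 0 := by
  rw [fixCount]
  generalize 23 = k
  induction k with
  | zero => rfl
  | succ k ih =>
    rw [Finset.sum_range_succ, ← ih, fixK_succ]
    congr 1
    by_cases h : PermCode.get p k = k
    · rw [if_pos h]; simp [h]
    · rw [if_neg h]
      rw [show Nat.beq (PermCode.get p k) k = false from Bool.eq_false_iff.2 fun e => h (Nat.eq_of_beq_eq_true e)]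
      rfl

/-- powers of a code -/
noncomputable def powc (x : ℕ) (n : ℕ) : ℕ :=
  Nat.rec (PermCode.one 24) (fun _ ih => PermCode.mul 24 ih x) n

theorem powc_zero (x : ℕ) : powc x 0 = PermCode.one 24 := rfl

theorem powc_succ (x n : ℕ) : powc x (n + 1) = PermCode.mul 24 (powc x n) x := rfl

theorem powc_spec {x : ℕ} (hx : PermCode.Ok 24 x) (n : ℕ) :
    PermCode.Ok 24 (powc x n) ∧ PermCode.val 24 (powc x n) = PermCode.val 24 x ^ n := by
  induction n with
  | zero =>
    rw [powc_zero, pow_zero]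
    exact ⟨PermCode.ok_one (by norm_num), PermCode.val_one (by norm_num)⟩
  | succ n ih =>
    rw [powc_succ, pow_succ]
    refine ⟨PermCode.ok_mul (by norm_num) ih.1 hx, ?_⟩
    rw [PermCode.val_mul (by norm_num) ih.1 hx, ih.2]

/-- test for being the identity code -/
noncomputable def isId (p : ℕ) : Bool := PermCode.allLt 24 (fun i => Nat.beq (PermCode.get p i) i)

theorem isId_of_val {p : ℕ} (hp : PermCode.Ok 24 p) (h : PermCode.val 24 p = 1) : isId p = true := by
  refine PermCode.allLt_of fun i hi => ?_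
  have e := (PermCode.val_apply hp ⟨i, hi⟩).symm
  rw [h] at e
  have e' : PermCode.get p i = i := e
  rw [e']
  exact Nat.beq_refl i

theorem val_ne_one {p : ℕ} (hp : PermCode.Ok 24 p) (h : isId p = false) : PermCode.val 24 p ≠ 1 :=
  fun e => Bool.noConfusion (h.symm.trans (isId_of_val hp e))

/-- Checks a list of codes: closed under the generators, the elements killed by `q` having many
fixed points. -/
noncomputable def sylCheck (gens elts : List ℕ) (q b : ℕ) : Bool :=
  gens.all (PermCode.okb 24) && elts.all (PermCode.okb 24) && elts.any (Nat.beq (PermCode.one 24)) &&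
    elts.all (fun l => (!isId (powc l q) || Nat.ble b (fixCount l)) && gens.all (fun s => elts.any (Nat.beq (PermCode.mul 24 s l))))

theorem syl2_check : sylCheck M23Data.syl2Gens M23Data.syl2Elts 2 7 = true := by decide +kernel

theorem syl3_check : sylCheck M23Data.syl3Gens M23Data.syl3Elts 3 5 = true := by decide +kernel

theorem span_subset {gens elts : List ℕ} {q b : ℕ} (h : sylCheck gens elts q b = true)
    {g : Equiv.Perm (Fin 24)} (hg : g ∈ PermCode.span 24 gens) :
    ∃ l ∈ elts, PermCode.Ok 24 l ∧ PermCode.val 24 l = g ∧ (g ^ q = 1 → b ≤ fixCount l) := by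
  simp only [sylCheck, Bool.and_eq_true, List.all_eq_true, List.any_eq_true] at h
  obtain ⟨⟨⟨hgok, heok⟩, ⟨e, he, he1⟩⟩, hcl⟩ := h
  let S : Set (Equiv.Perm (Fin 24)) := {g | ∃ l ∈ elts, PermCode.val 24 l = g}
  let T : Submonoid (Equiv.Perm (Fin 24)) :=
    { carrier := {g | ∀ u ∈ S, g * u ∈ S}
      one_mem' := fun u hu => by rwa [one_mul]
      mul_mem' := fun {a c} ha hc u hu => by rw [mul_assoc]; exact ha _ (hc u hu) }
  have hT : g ∈ T := by
    refine Subgroup.closure_induction (p := fun x _ => x ∈ T) ?_ (one_mem T)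
      (fun _ _ _ _ => mul_mem) ?_ hg
    · rintro _ ⟨s, hs, rfl⟩ u ⟨l, hl, rfl⟩
      obtain ⟨m, hm, hm'⟩ := (hcl l hl).2 s hs
      exact ⟨m, hm, by rw [← Nat.eq_of_beq_eq_true hm', PermCode.val_mul (by norm_num)
        (PermCode.ok_of_okb (hgok s hs)) (PermCode.ok_of_okb (heok l hl))]⟩
    · intro x _ hx
      have : x⁻¹ = x ^ (orderOf x - 1) := inv_eq_of_mul_eq_one_right (by
        rw [← pow_succ', Nat.sub_add_cancel (orderOf_pos x), pow_orderOf_eq_one])
      rw [this]; exact pow_mem hx _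
  obtain ⟨l, hl, hlg⟩ := hT 1 ⟨e, he, by rw [← Nat.eq_of_beq_eq_true he1, PermCode.val_one (by norm_num)]⟩
  rw [mul_one] at hlg
  refine ⟨l, hl, PermCode.ok_of_okb (heok l hl), hlg, fun hgq => ?_⟩
  have hok := powc_spec (PermCode.ok_of_okb (heok l hl)) q
  have hid : isId (powc l q) = true := isId_of_val hok.1 (by rw [hok.2, hlg, hgq])
  have := (hcl l hl).1
  rw [hid] at this
  exact Nat.le_of_ble_eq_true (by simpa using this)

/-- A `p`-element lies in a conjugate of a Sylow subgroup given by a checked list. -/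
theorem fix_bound (hcard : Nat.card Spor.M23 = 10200960) {p k b : ℕ} [hp : Fact p.Prime]
    {gens elts : List ℕ} (h : sylCheck gens elts p b = true) (hin : ∀ s ∈ gens, inM23 s = true)
    (hspan : Nat.card (PermCode.span 24 gens) = p ^ k) (hk : ¬ p ^ (k + 1) ∣ 10200960)
    (g : Spor.M23) (hg : orderOf g = p) : b ≤ fix23 g := by
  let S : Subgroup Spor.M23 :=
    ((PermCode.span 24 gens).comap tr.toMonoidHom).subgroupOf Spor.M23
  have hle : (PermCode.span 24 gens).comap tr.toMonoidHom ≤ Spor.M23 := by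
    intro x hx
    have : PermCode.span 24 gens ≤ H := by
      rw [PermCode.span, Subgroup.closure_le]
      rintro _ ⟨s, hs, rfl⟩
      exact val_mem_H (hin s hs)
    have := mem_H.1 (this hx)
    simpa using this
  have hS : Nat.card S = p ^ k := by
    rw [← Subgroup.card_map_of_injective (f := Spor.M23.subtype) (Subgroup.subtype_injective _),
      Subgroup.map_subgroupOf_eq_of_le hle,
      show (tr.toMonoidHom : _ →* _) = ((tr : Equiv.Perm GolayPt ≃* _) : _ →* _) from rfl,
      Subgroup.comap_equiv_eq_map_symm, Subgroup.card_map_of_injective (MulEquiv.injective _), hspan]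
  have hind : ¬ p ∣ S.index := by
    intro hd
    apply hk
    rw [← hcard, ← S.card_mul_index, hS, pow_succ]
    exact Nat.mul_dvd_mul_left _ hd
  let P : Sylow p Spor.M23 := (IsPGroup.of_card hS).toSylow hind
  obtain ⟨Q, hQ⟩ := (IsPGroup.of_card (n := 1) (G := Subgroup.zpowers g)
    (by rw [Nat.card_zpowers, hg, pow_one])).exists_le_sylow
  obtain ⟨c, hc⟩ := MulAction.exists_smul_eq Spor.M23 P Q
  have hgQ : g ∈ ((c • P : Sylow p Spor.M23) : Subgroup Spor.M23) := hc ▸ hQ (Subgroup.mem_zpowers g)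
  obtain ⟨u, hu, huv⟩ := hgQ
  have hu' : u ∈ S := hu
  obtain ⟨l, -, hlok, hlval, hlb⟩ := span_subset h (show tr (u : Equiv.Perm GolayPt) ∈ _ from hu')
  rw [show g = c * u * c⁻¹ from huv.symm] at hg ⊢
  rw [fix23_conj, fix23_code u l hlok hlval.symm, ← fixCount_eq]
  apply hlb
  have h1 : (c * u * c⁻¹) ^ p = 1 := by rw [← hg]; exact pow_orderOf_eq_one _
  rw [conj_pow, conj_eq_one_iff] at h1
  rw [← map_pow, ← SubmonoidClass.coe_pow, h1, OneMemClass.coe_one, map_one]

theorem card_Pt23 : Fintype.card Pt23 = 23 := by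
  rw [Fintype.card_subtype_compl]; simp

theorem fix_congr {p : ℕ} (hp : p.Prime) (g : Spor.M23) (hg : orderOf g = p) :
    ∃ n, fix23 g + p * n = 23 := by
  haveI := Fact.mk hp
  have ho : orderOf (act23 g) = p := by rw [orderOf_injective act23 act23_injective, hg]
  obtain ⟨n, hn⟩ := Equiv.Perm.cycleType_prime_order (by rw [ho]; exact hp)
  have h1 := Equiv.Perm.sum_cycleType (act23 g)
  rw [hn, Multiset.sum_replicate, ho, smul_eq_mul] at h1
  refine ⟨n + 1, ?_⟩
  have h2 : (act23 g).support = Finset.univ.filter fun a => ¬ act23 g a = a := by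
    ext a; simp
  have h3 := Finset.card_filter_add_card_filter_not (s := (Finset.univ : Finset Pt23))
    (fun a => act23 g a = a)
  rw [← h2, Finset.card_univ, card_Pt23, ← h1] at h3
  rw [fix23, mul_comm]
  exact h3

theorem orderOf_act23 {p : ℕ} (g : Spor.M23) (hg : orderOf g = p) :
    orderOf (act23 g) = p := by
  rw [orderOf_injective act23 act23_injective, hg]

/-- Lower bounds for the number of cycles of an element of prime order. -/
theorem cycle_bound (hcard : Nat.card Spor.M23 = 10200960) {p : ℕ} (hp : p.Prime) (g : Spor.M23)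
    (hg : orderOf g = p) :
    (p = 2 → 15 ≤ cycleNum (act23 g)) ∧ (p = 3 → 11 ≤ cycleNum (act23 g)) ∧
      (p = 5 → 7 ≤ cycleNum (act23 g)) ∧ (p = 7 → 5 ≤ cycleNum (act23 g)) ∧
      (p = 11 → 3 ≤ cycleNum (act23 g)) ∧ 1 ≤ cycleNum (act23 g) := by
  have hb : Fintype.card Pt23 + (p - 1) * fix23 g ≤ p * cycleNum (act23 g) :=
    le_prime_mul_cycleNum (act23 g) hp (orderOf_act23 g hg)
  rw [card_Pt23] at hb
  obtain ⟨n, hn⟩ := fix_congr hp g hg
  have hd := data_mem
  simp only [Bool.and_eq_true, List.all_eq_true] at hd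
  refine ⟨?_, ?_, ?_, ?_, ?_, ?_⟩
  · rintro rfl
    haveI := Fact.mk hp
    have := fix_bound hcard (k := 7) syl2_check (fun s hs => hd.1.2 s (List.mem_append_left _ hs))
      (by rw [M23Data.syl2_card]; norm_num) (by norm_num) g hg
    omega
  · rintro rfl
    haveI := Fact.mk hp
    have := fix_bound hcard (k := 2) syl3_check (fun s hs => hd.1.2 s (List.mem_append_right _ hs))
      (by rw [M23Data.syl3_card]; norm_num) (by norm_num) g hg
    omega
  · rintro rfl; omega
  · rintro rfl; omega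
  · rintro rfl; omega
  · rcases Nat.eq_zero_or_pos (cycleNum (act23 g)) with h | h
    · rw [h, mul_zero] at hb; omega
    · exact h

/-! ### The main statement -/

/-- evaluation of a word -/
noncomputable def evalN (n : ℕ) (G w : List ℕ) : ℕ :=
  w.foldl (fun acc i => PermCode.mul n acc (G.getD i (PermCode.one n))) (PermCode.one n)

/-- evaluation of a word on 24 points -/
noncomputable def evalW (G w : List ℕ) : ℕ := evalN 24 G w

/-- check of a row -/
noncomputable def rowCheck (r : ℕ × ℕ × ℕ × List ℕ × List ℕ × List ℕ) : Bool :=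
  let G := r.2.2.2.1
  let x := G.getD 0 0
  let y := G.getD 1 0
  Nat.beq G.length 4 &&
  G.all (PermCode.okb 24) &&
  Nat.beq (PermCode.mul 24 x (G.getD 2 0)) (PermCode.one 24) &&
  Nat.beq (PermCode.mul 24 y (G.getD 3 0)) (PermCode.one 24) &&
  !isId x && !isId y && !isId (PermCode.mul 24 x y) &&
  Nat.beq (powc x r.1) (PermCode.one 24) &&
  Nat.beq (powc y r.2.1) (PermCode.one 24) &&
  Nat.beq (powc (PermCode.mul 24 x y) r.2.2.1) (PermCode.one 24) &&
  Nat.beq (evalW G r.2.2.2.2.1) (M23Data.m23Gens.getD 0 0) &&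
  Nat.beq (evalW G r.2.2.2.2.2) (M23Data.m23Gens.getD 1 0)

theorem rows_check : M23Data.rows.all rowCheck = true := by decide +kernel

theorem rows_cover : ∀ p ∈ [2, 3, 5, 7, 11, 23], ∀ q ∈ [2, 3, 5, 7, 11, 23],
    ∀ r ∈ [2, 3, 5, 7, 11, 23], p ≤ q → q ≤ r → ¬ (p = 2 ∧ q = 2) →
      ¬ ((p = 2 ∧ q = 3) ∨ (p = 2 ∧ q = 5 ∧ r = 5) ∨ (p = 2 ∧ q = 5 ∧ r = 7) ∨ (p = 3 ∧ q = 3 ∧ r ≤ 7)) →
      ∃ row ∈ M23Data.rows, row.1 = p ∧ row.2.1 = q ∧ row.2.2.1 = r := by
  decide +kernel

theorem prime_mem {p : ℕ} (hp : p.Prime) (h : p ∣ 10200960) : p ∈ [2, 3, 5, 7, 11, 23] := by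
  rw [show 10200960 = 2 ^ 7 * 3 ^ 2 * 5 * 7 * 11 * 23 by norm_num] at h
  simp only [hp.dvd_mul] at h
  have hd : ∀ {m : ℕ}, p ∣ m → m.Prime → p = m := fun h hm => (Nat.prime_dvd_prime_iff_eq hp hm).1 h
  rcases h with ((((h | h) | h) | h) | h) | h
  · simp [hd (hp.dvd_of_dvd_pow h) Nat.prime_two]
  · simp [hd (hp.dvd_of_dvd_pow h) Nat.prime_three]
  · simp [hd h (by norm_num)]
  · simp [hd h (by norm_num)]
  · simp [hd h (by norm_num)]
  · simp [hd h (by norm_num)]

theorem evalN_spec {n : ℕ} (hn : n ≤ 256) {G : List ℕ} (hG : ∀ s ∈ G, PermCode.Ok n s)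
    {K : Subgroup (Equiv.Perm (Fin n))} (hK : ∀ s ∈ G, PermCode.val n s ∈ K) (w : List ℕ) :
    PermCode.val n (evalN n G w) ∈ K := by
  have hget : ∀ i, PermCode.Ok n (G.getD i (PermCode.one n)) ∧
      PermCode.val n (G.getD i (PermCode.one n)) ∈ K := by
    intro i
    rcases lt_or_ge i G.length with hi | hi
    · rw [List.getD_eq_getElem _ _ hi]; exact ⟨hG _ (List.getElem_mem hi), hK _ (List.getElem_mem hi)⟩
    · rw [List.getD_eq_default _ _ hi, PermCode.val_one hn]
      exact ⟨PermCode.ok_one hn, one_mem _⟩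
  suffices ∀ acc, PermCode.Ok n acc → PermCode.val n acc ∈ K → PermCode.val n
      (w.foldl (fun acc i => PermCode.mul n acc (G.getD i (PermCode.one n))) acc) ∈ K from
    this _ (PermCode.ok_one hn) (by rw [PermCode.val_one hn]; exact one_mem _)
  induction w with
  | nil => exact fun acc _ h => h
  | cons i w ih =>
    intro acc h1 h2
    exact ih _ (PermCode.ok_mul hn h1 (hget i).1)
      (by rw [PermCode.val_mul hn h1 (hget i).1]; exact mul_mem h2 (hget i).2)

theorem shift_trans_bool : PermCode.allLt 23 (fun i => PermCode.allLt 23 (fun j =>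
    (List.range 23).any (fun k =>
      Nat.beq (PermCode.get (powc (M23Data.m23Gens.getD 0 0) k) i) j))) = true := by
  decide +kernel

theorem shift_trans : ∀ i < 23, ∀ j < 23, ∃ k < 23,
    PermCode.get (powc (M23Data.m23Gens.getD 0 0) k) i = j := by
  intro i hi j hj
  obtain ⟨k, hk, he⟩ := List.any_eq_true.1
    (PermCode.allLt_spec (PermCode.allLt_spec shift_trans_bool i hi) j hj)
  exact ⟨k, List.mem_range.1 hk, Nat.eq_of_beq_eq_true he⟩

theorem exists_triple (hcard : Nat.card Spor.M23 = 10200960) {row : ℕ × ℕ × ℕ × List ℕ × List ℕ × List ℕ}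
    (hrow : row ∈ M23Data.rows) (hp : row.1.Prime) (hq : row.2.1.Prime) (hr : row.2.2.1.Prime) :
    ∃ x y z : Spor.M23, orderOf x = row.1 ∧ orderOf y = row.2.1 ∧ orderOf z = row.2.2.1 ∧
      x * y * z = 1 ∧ Subgroup.closure {x, y} = ⊤ := by
  have hc := List.all_eq_true.1 rows_check row hrow
  have hd := data_mem
  simp only [Bool.and_eq_true, List.all_eq_true] at hd
  simp only [rowCheck, Bool.and_eq_true, List.all_eq_true, Bool.not_eq_true'] at hc
  obtain ⟨⟨⟨⟨⟨⟨⟨⟨⟨⟨⟨hlen, hok⟩, hix⟩, hiy⟩, hnx⟩, hny⟩, hnxy⟩, hpx⟩, hpy⟩, hpz⟩, hwa⟩, hwb⟩ := hc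
  set G := row.2.2.2.1 with hG
  have hlen' : G.length = 4 := Nat.eq_of_beq_eq_true hlen
  have hmem : ∀ i < 4, G.getD i 0 ∈ G := fun i hi => by
    rw [List.getD_eq_getElem _ _ (by omega)]; exact List.getElem_mem _
  set cx := G.getD 0 0 with hcx
  set cy := G.getD 1 0 with hcy
  have okx := PermCode.ok_of_okb (hok cx (hmem 0 (by norm_num)))
  have oky := PermCode.ok_of_okb (hok cy (hmem 1 (by norm_num)))
  let x : Spor.M23 := ⟨tr.symm (PermCode.val 24 cx), mem_H.1 (val_mem_H (hd.2 row hrow cx (hmem 0 (by norm_num))))⟩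
  let y : Spor.M23 := ⟨tr.symm (PermCode.val 24 cy), mem_H.1 (val_mem_H (hd.2 row hrow cy (hmem 1 (by norm_num))))⟩
  let ι : Spor.M23 →* Equiv.Perm (Fin 24) := tr.toMonoidHom.comp Spor.M23.subtype
  have hι : Function.Injective ι := fun a c h => Subtype.ext (tr.injective h)
  have ιx : ι x = PermCode.val 24 cx := tr.apply_symm_apply _
  have ιy : ι y = PermCode.val 24 cy := tr.apply_symm_apply _
  haveI := Fact.mk hp
  haveI := Fact.mk hq
  haveI := Fact.mk hr
  refine ⟨x, y, (x * y)⁻¹, ?_, ?_, ?_, mul_inv_cancel _, ?_⟩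
  · rw [← orderOf_injective ι hι, ιx]
    refine orderOf_eq_prime ?_ (val_ne_one okx hnx)
    rw [← (powc_spec okx _).2, Nat.eq_of_beq_eq_true hpx, PermCode.val_one (by norm_num)]
  · rw [← orderOf_injective ι hι, ιy]
    refine orderOf_eq_prime ?_ (val_ne_one oky hny)
    rw [← (powc_spec oky _).2, Nat.eq_of_beq_eq_true hpy, PermCode.val_one (by norm_num)]
  · have okxy := PermCode.ok_mul (n := 24) (by norm_num) okx oky
    rw [orderOf_inv, ← orderOf_injective ι hι, map_mul, ιx, ιy, ← PermCode.val_mul (by norm_num) okx oky]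
    refine orderOf_eq_prime ?_ ?_
    · rw [← (powc_spec okxy _).2, Nat.eq_of_beq_eq_true hpz, PermCode.val_one (by norm_num)]
    · exact val_ne_one okxy hnxy
  · apply Subgroup.map_injective (f := ι) hι
    rw [MonoidHom.map_closure, Set.image_pair, ιx, ιy, ← MonoidHom.range_eq_map]
    have hrange : ι.range = H := by
      rw [H, MonoidHom.range_comp, Subgroup.range_subtype]
    rw [hrange]
    set K := Subgroup.closure ({PermCode.val 24 cx, PermCode.val 24 cy} : Set (Equiv.Perm (Fin 24)))
    apply le_antisymm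
    · rw [Subgroup.closure_le]
      rintro _ (rfl | rfl)
      · exact val_mem_H (hd.2 row hrow cx (hmem 0 (by norm_num)))
      · exact val_mem_H (hd.2 row hrow cy (hmem 1 (by norm_num)))
    · have hinv : ∀ a c, PermCode.Ok 24 a → PermCode.Ok 24 c →
          PermCode.mul 24 a c = PermCode.one 24 → PermCode.val 24 a ∈ K → PermCode.val 24 c ∈ K := by
        intro a c ha hc' h hK
        have := PermCode.val_mul (n := 24) (by norm_num) ha hc'
        rw [h, PermCode.val_one (by norm_num)] at this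
        rw [eq_inv_of_mul_eq_one_right this.symm]
        exact inv_mem hK
      have hK : ∀ s ∈ G, PermCode.val 24 s ∈ K := by
        intro s hs
        obtain ⟨i, hi, rfl⟩ := List.mem_iff_getElem.1 hs
        have key : ∀ i < 4, PermCode.val 24 (G.getD i 0) ∈ K := by
          have k0 : PermCode.val 24 cx ∈ K := Subgroup.subset_closure (Or.inl rfl)
          have k1 : PermCode.val 24 cy ∈ K := Subgroup.subset_closure (Or.inr rfl)
          intro i hi'
          interval_cases i
          · exact k0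
          · exact k1
          · exact hinv _ _ okx (PermCode.ok_of_okb (hok _ (hmem 2 (by norm_num)))) (Nat.eq_of_beq_eq_true hix) k0
          · exact hinv _ _ oky (PermCode.ok_of_okb (hok _ (hmem 3 (by norm_num)))) (Nat.eq_of_beq_eq_true hiy) k1
        have := key i (by omega)
        rwa [List.getD_eq_getElem _ _ hi] at this
      have hG' : ∀ s ∈ G, PermCode.Ok 24 s := fun s hs => PermCode.ok_of_okb (hok s hs)
      rw [← span_gens hcard, PermCode.span, Subgroup.closure_le]
      rintro _ ⟨s, hs, rfl⟩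
      obtain ⟨i, hi, rfl⟩ := List.mem_iff_getElem.1 hs
      have hi2 : i < 2 := hi
      interval_cases i
      · rw [show M23Data.m23Gens[0] = M23Data.m23Gens.getD 0 0 from rfl, ← Nat.eq_of_beq_eq_true hwa]
        exact evalN_spec (by norm_num) hG' hK _
      · rw [show M23Data.m23Gens[1] = M23Data.m23Gens.getD 1 0 from rfl, ← Nat.eq_of_beq_eq_true hwb]
        exact evalN_spec (by norm_num) hG' hK _

theorem transitive23 (hcard : Nat.card Spor.M23 = 10200960) (a b : Pt23) :
    ∃ g : Spor.M23, act23 g a = b := by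
  have hd := data_mem
  simp only [Bool.and_eq_true] at hd
  have hs := PermCode.allLt_spec hd.1.1 0 (by norm_num)
  have hok := PermCode.ok_of_okb (show PermCode.okb 24 (M23Data.m23Gens.getD 0 0) = true by
    simp only [inM23, Bool.and_eq_true] at hs; exact hs.1.1)
  let g : Spor.M23 := ⟨_, mem_H.1 (val_mem_H hs)⟩
  have key : ∀ i < 23, ∀ j < 23, ∃ k < 23,
      PermCode.get (powc (M23Data.m23Gens.getD 0 0) k) i = j := shift_trans
  obtain ⟨a, ha⟩ := a
  obtain ⟨b, hb⟩ := b
  rcases a with _ | u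
  · exact absurd rfl ha
  rcases b with _ | v
  · exact absurd rfl hb
  obtain ⟨k, -, hk⟩ := key u.val (ZMod.val_lt u) v.val (ZMod.val_lt v)
  refine ⟨g ^ k, Subtype.ext ?_⟩
  rw [act23_apply, SubmonoidClass.coe_pow]
  apply eqv.injective
  have e := tr_apply (tr.symm (PermCode.val 24 (M23Data.m23Gens.getD 0 0)) ^ k) (eqv (some u))
  rw [map_pow, MulEquiv.apply_symm_apply, Equiv.symm_apply_apply] at e
  rw [show (g : Equiv.Perm GolayPt) = tr.symm (PermCode.val 24 (M23Data.m23Gens.getD 0 0)) from rfl, ← e,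
    ← (powc_spec hok k).2]
  exact Fin.ext ((PermCode.val_apply (powc_spec hok k).1 _).trans hk)

/-- The triples of primes for which M23 is so generated. -/
theorem triple_generation (hcard : Nat.card Spor.M23 = 10200960) (p q r : ℕ) (hp : p.Prime)
    (hq : q.Prime) (hr : r.Prime) (hpq : p ≤ q) (hqr : q ≤ r) (hp2 : ¬ (p = 2 ∧ q = 2))
    (hdvd : p ∣ 10200960 ∧ q ∣ 10200960 ∧ r ∣ 10200960) :
    (∃ x y z : Spor.M23, orderOf x = p ∧ orderOf y = q ∧ orderOf z = r ∧ x * y * z = 1 ∧
        Subgroup.closure {x, y} = ⊤) ↔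
      ¬ ((p = 2 ∧ q = 3) ∨ (p = 2 ∧ q = 5 ∧ r = 5) ∨ (p = 2 ∧ q = 5 ∧ r = 7) ∨ (p = 3 ∧ q = 3 ∧ r ≤ 7)) := by
  constructor
  · rintro ⟨x, y, z, hx, hy, hz, hxyz, htop⟩ hex
    have hree : cycleNum (act23 x) + cycleNum (act23 y) + cycleNum (act23 z) ≤ 25 := by
      have h := ree_inequality (x := act23 x) (y := act23 y) (z := act23 z)
        (by rw [← map_mul, ← map_mul, hxyz, map_one]) (fun a b => by
          obtain ⟨g, hg⟩ := transitive23 hcard a b
          refine ⟨act23 g, ?_, hg⟩
          rw [← Set.image_pair, ← MonoidHom.map_closure, htop]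
          exact ⟨g, trivial, rfl⟩)
      rwa [card_Pt23] at h
    obtain ⟨x2, x3, x5, -, -, -⟩ := cycle_bound hcard hp x hx
    obtain ⟨y2, y3, y5, -, -, -⟩ := cycle_bound hcard hq y hy
    obtain ⟨z2, z3, z5, z7, z11, z1⟩ := cycle_bound hcard hr z hz
    rcases hex with ⟨h1, h2⟩ | ⟨h1, h2, h3⟩ | ⟨h1, h2, h3⟩ | ⟨h1, h2, h3⟩
    · have := x2 h1; have := y3 h2; omega
    · have := x2 h1; have := y5 h2; have := z5 h3; omega
    · have := x2 h1; have := y5 h2; have := z7 h3; omega
    · have := x3 h1; have := y3 h2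
      have hmem := prime_mem hr hdvd.2.2
      simp only [List.mem_cons, List.not_mem_nil, or_false] at hmem
      rcases hmem with rfl | rfl | rfl | rfl | rfl | rfl <;> first
        | omega
        | (have := z3 rfl; omega)
        | (have := z5 rfl; omega)
        | (have := z7 rfl; omega)
  · intro hne
    obtain ⟨row, hrow, h1, h2, h3⟩ := rows_cover p (prime_mem hp hdvd.1) q (prime_mem hq hdvd.2.1)
      r (prime_mem hr hdvd.2.2) hpq hqr hp2 hne
    obtain ⟨x, y, z, hx, hy, hz, e1, e2⟩ := exists_triple hcard hrow (h1 ▸ hp) (h2 ▸ hq) (h3 ▸ hr)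
    exact ⟨x, y, z, hx.trans h1, hy.trans h2, hz.trans h3, e1, e2⟩

end CfsgLib.PermGen.M23
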