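import Cfsg.Agent.Lib.Alt.Aut
import Cfsg.Agent.Lib.Components.GenFitting
import Cfsg.Agent.Lib.Components.Layer
import Cfsg.Agent.Lib.StdForm.QuadFour
import Mathlib.GroupTheory.SpecificGroups.Alternating.Simple

/-!
Permutation groups with a quasisimple generalised Fitting subgroup that contain a three-cycle.
-/

set_option autoImplicit false
set_option linter.style.haveILetI false

namespace CfsgLib.PermGen

open Equiv Equiv.Perm CfsgLib.AltAut

variable {α : Type*} [Fintype α] [DecidableEq α] (H : Subgroup (Perm α))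

/-- All three-cycles on `Δ` lie in `H`. -/
def AllCycles (Δ : Finset α) : Prop := ∀ f : Perm α, f.IsThreeCycle → f.support ⊆ Δ → f ∈ H

theorem cyc_mem_support {a b c : α} (hab : a ≠ b) (hac : a ≠ c) (hbc : b ≠ c) :
    (cyc a b c).support = {a, b, c} := by
  symm
  refine Finset.eq_of_subset_of_card_le ?_ (le_of_eq ?_)
  · intro y hy
    simp only [Finset.mem_insert, Finset.mem_singleton] at hy
    rw [mem_support]
    rcases hy with rfl | rfl | rfl
    · rw [cyc_apply_fst hab hac]; exact hab.symm
    · rw [cyc_apply_snd hac hbc]; exact hbc.symm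
    · rw [cyc_apply_trd]; exact hac
  · rw [(cyc_isThreeCycle hab hac hbc).card_support, Finset.card_eq_three.2 ⟨a, b, c, hab, hac, hbc, rfl⟩]

theorem cyc_inv {a b c : α} : (cyc a b c)⁻¹ = cyc c b a := by
  rw [cyc, cyc, mul_inv_rev, swap_inv, swap_inv, swap_comm b c, swap_comm a b]

variable {H}

theorem AllCycles.cyc_mem {Δ : Finset α} (h : AllCycles H Δ) {a b c : α} (hab : a ≠ b) (hac : a ≠ c) (hbc : b ≠ c)
    (ha : a ∈ Δ) (hb : b ∈ Δ) (hc : c ∈ Δ) : cyc a b c ∈ H := by
  refine h _ (cyc_isThreeCycle hab hac hbc) ?_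
  rw [cyc_mem_support hab hac hbc]
  simp [Finset.insert_subset_iff, ha, hb, hc]

/-- One three-cycle through an outside point and two points of `Δ` extends `Δ`. -/
theorem AllCycles.insert_of_mem {Δ : Finset α} (h : AllCycles H Δ) {b d e : α} (hb : b ∉ Δ) (hd : d ∈ Δ) (he : e ∈ Δ)
    (hde : d ≠ e) (hmem : cyc b d e ∈ H) : AllCycles H (insert b Δ) := by
  have ne : ∀ {p}, p ∈ Δ → b ≠ p := fun hp e => hb (e ▸ hp)
  let R : α → α → Prop := fun p q => cyc b p q ∈ H
  have hswap : ∀ p ∈ Δ, ∀ q ∈ Δ, p ≠ q → R p q → R q p := by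
    intro p hp q hq hpq hr
    have h1 := H.inv_mem hr
    rw [cyc_inv] at h1
    -- the inverse cycle, rotated
    have h2 : cyc q p b = cyc b q p := by
      have hc := threeCycle_eq_cyc (cyc_isThreeCycle hpq.symm (ne hq).symm (ne hp).symm) (a := b)
        (by rw [cyc_apply_trd]; exact (ne hq).symm)
      rw [cyc_apply_trd, cyc_apply_fst hpq.symm (ne hq).symm] at hc
      exact hc
    show cyc b q p ∈ H
    rw [← h2]
    exact h1
  have hmove : ∀ p ∈ Δ, ∀ q ∈ Δ, ∀ r ∈ Δ, p ≠ q → p ≠ r → R p q → R p r := by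
    intro p hp q hq r hr hpq hpr hR
    by_cases hqr : q = r
    · exact hqr ▸ hR
    -- conjugate by the cycle p -> r -> q to move (q, p) to (p, r)
    have hg := h.cyc_mem hpr hpq (Ne.symm hqr) hp hr hq
    have h1 := H.mul_mem (H.mul_mem hg (hswap p hp q hq hpq hR)) (H.inv_mem hg)
    rw [cyc_conj, cyc_apply_other (ne hp) (ne hr) (ne hq), cyc_apply_trd, cyc_apply_fst hpr hpq] at h1
    exact h1
  have hall : ∀ p ∈ Δ, ∀ q ∈ Δ, p ≠ q → R p q := by
    intro p hp q hq hpq
    by_cases hdq : d = q
    · subst hdq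
      exact hswap d hd p hp hpq.symm (hmove d hd e he p hp hde hpq.symm hmem)
    · exact hswap q hq p hp hpq.symm
        (hmove q hq d hd p hp (Ne.symm hdq) hpq.symm
          (hswap d hd q hq hdq (hmove d hd e he q hq hde hdq hmem)))
  intro f hf hsupp
  by_cases hfb : f b = b
  · refine h f hf fun y hy => (Finset.mem_insert.1 (hsupp hy)).resolve_left fun e => ?_
    rw [e, mem_support] at hy
    exact hy hfb
  · obtain ⟨-, h1, h2, h3⟩ := cycle_orbit (threeCycle_pow_three hf) hfb
    rw [threeCycle_eq_cyc hf hfb]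
    have hb' : b ∈ f.support := mem_support.2 hfb
    exact hall _ ((Finset.mem_insert.1 (hsupp (apply_mem_support.2 hb'))).resolve_left h1.symm) _
      ((Finset.mem_insert.1 (hsupp (apply_mem_support.2 (apply_mem_support.2 hb')))).resolve_left h2.symm) h3

/-- A three-cycle of `H` leaving `Δ` extends `Δ`. -/
theorem AllCycles.extend {Δ : Finset α} (h : AllCycles H Δ) (hcard : 3 ≤ Δ.card) {y : Perm α} (hy : y.IsThreeCycle)
    (hyH : y ∈ H) {p : α} (hp : p ∈ Δ) (hpy : p ∈ y.support) (hnot : ¬ y.support ⊆ Δ) :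
    ∃ Δ', Δ ⊂ Δ' ∧ AllCycles H Δ' := by
  -- a point of `Δ` moved by `y` out of `Δ`
  have hp0 : y p ≠ p := mem_support.1 hpy
  obtain ⟨ho, hp1, hp2, hp3⟩ := cycle_orbit (threeCycle_pow_three hy) hp0
  have hy' : y.support = {p, y p, y (y p)} := by
    conv_lhs => rw [threeCycle_eq_cyc hy hp0]
    exact cyc_mem_support hp1 hp2 hp3
  obtain ⟨a, ha, hay, hb⟩ : ∃ a ∈ Δ, a ∈ y.support ∧ y a ∉ Δ := by
    by_cases h1 : y p ∈ Δ
    · refine ⟨y p, h1, apply_mem_support.2 hpy, fun h2 => hnot ?_⟩
      rw [hy']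
      simp [Finset.insert_subset_iff, hp, h1, h2]
    · exact ⟨p, hp, hpy, h1⟩
  have ha0 : y a ≠ a := mem_support.1 hay
  obtain ⟨hoa, hab, hac, hbc⟩ := cycle_orbit (threeCycle_pow_three hy) ha0
  refine ⟨insert (y a) Δ, Finset.ssubset_insert hb, ?_⟩
  have hrot : cyc (y a) (y (y a)) a = y := by
    have := threeCycle_eq_cyc hy (a := y a) (fun e => ha0 (y.injective e))
    rw [hoa] at this
    exact this.symm
  by_cases hc : y (y a) ∈ Δ
  · exact h.insert_of_mem hb hc ha hac.symm (hrot.symm ▸ hyH)
  · obtain ⟨d, hd, e, he, hde⟩ : ∃ d ∈ Δ.erase a, ∃ e ∈ Δ.erase a, d ≠ e :=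
      Finset.one_lt_card.1 (by rw [Finset.card_erase_of_mem ha]; omega)
    rw [Finset.mem_erase] at hd he
    have hfix : ∀ {z}, z ∈ Δ → z ≠ a → y z = z := by
      intro z hz hza
      rw [← notMem_support]
      intro hzs
      rw [threeCycle_eq_cyc hy ha0, cyc_mem_support hab hac hbc] at hzs
      simp only [Finset.mem_insert, Finset.mem_singleton] at hzs
      rcases hzs with rfl | rfl | rfl
      · exact hza rfl
      · exact hb hz
      · exact hc hz
    have h1 := H.mul_mem (H.mul_mem hyH (h.cyc_mem (Ne.symm hd.1) (Ne.symm he.1) hde ha hd.2 he.2)) (H.inv_mem hyH)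
    rw [cyc_conj, hfix hd.2 hd.1, hfix he.2 he.1] at h1
    exact h.insert_of_mem hb hd.2 he.2 hde h1

/-- The even permutations of `Δ`. -/
def altOn (Δ : Finset α) : Subgroup (Perm α) :=
  (alternatingGroup {x // x ∈ Δ}).map ofSubtype

theorem altOn_equiv (Δ : Finset α) : Nonempty (alternatingGroup {x // x ∈ Δ} ≃* altOn Δ) :=
  ⟨(alternatingGroup {x // x ∈ Δ}).equivMapOfInjective _ ofSubtype_injective⟩

theorem altOn_fix {Δ : Finset α} {g : Perm α} (hg : g ∈ altOn Δ) {x : α} (hx : x ∉ Δ) : g x = x := by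
  obtain ⟨f, -, rfl⟩ := hg
  exact ofSubtype_apply_of_not_mem f hx

theorem mem_altOn {Δ : Finset α} {f : Perm α} (hf : f.IsThreeCycle) (hs : f.support ⊆ Δ) : f ∈ altOn Δ := by
  have h1 : ∀ x, f x ∈ Δ ↔ x ∈ Δ := fun x => by
    by_cases hx : f x = x
    · rw [hx]
    · exact ⟨fun _ => hs (mem_support.2 hx), fun _ => hs (apply_mem_support.2 (mem_support.2 hx))⟩
  have h2 : ∀ x, f x ≠ x → x ∈ Δ := fun x hx => hs (mem_support.2 hx)
  have h3 : ofSubtype (f.subtypePerm h1) = f := ofSubtype_subtypePerm h1 h2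
  refine ⟨f.subtypePerm h1, ?_, h3⟩
  rw [SetLike.mem_coe, mem_alternatingGroup, ← sign_ofSubtype, h3, hf.sign]

theorem AllCycles.altOn_le {Δ : Finset α} (h : AllCycles H Δ) : altOn Δ ≤ H := by
  unfold altOn
  rw [← closure_three_cycles_eq_alternating, MonoidHom.map_closure, Subgroup.closure_le]
  rintro _ ⟨g, hg, rfl⟩
  refine h _ ?_ fun x hx => ?_
  · show cycleType _ = _
    rw [cycleType_ofSubtype]
    exact hg
  · by_contra hn
    rw [mem_support] at hx
    exact hx (ofSubtype_apply_of_not_mem g hn)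

theorem eq_one_of_perfect_centralizes {x : Perm α} (hx : x.IsThreeCycle) (F : Subgroup (Perm α))
    (hF : ⁅F, F⁆ = F) (hc : ∀ f ∈ F, f * x = x * f) : ∀ f ∈ F, ∀ a ∈ x.support, f a = a := by
  intro f hf a ha
  have ha0 : x a ≠ a := mem_support.1 ha
  obtain ⟨ho, hab, hac, hbc⟩ := cycle_orbit (threeCycle_pow_three hx) ha0
  have hs : x.support = {a, x a, x (x a)} := by
    conv_lhs => rw [threeCycle_eq_cyc hx ha0]
    exact cyc_mem_support hab hac hbc
  let Fix : Subgroup (Perm α) :=
    { carrier := {g | ∀ b ∈ x.support, g b = b}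
      one_mem' := fun _ _ => rfl
      mul_mem' := fun {g g'} hg hg' b hb => by rw [Perm.mul_apply, hg' b hb, hg b hb]
      inv_mem' := fun {g} hg b hb => by
        conv_lhs => rw [← hg b hb]
        exact g.symm_apply_apply b }
  suffices h : F ≤ Fix from h hf a ha
  rw [← hF, Subgroup.commutator_le]
  intro g hg g' hg' b hb
  -- both act as powers of `x` on the support
  have hpow : ∀ u ∈ F, ∃ i : ℕ, ∀ c ∈ x.support, u c = (x ^ i) c := by
    intro u hu
    have hcomm : ∀ c, u (x c) = x (u c) := fun c => congrArg (fun z : Perm α => z c) (hc u hu)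
    have hua : u a ∈ x.support := by
      rw [mem_support, ← hcomm]
      exact fun e => ha0 (u.injective e)
    obtain ⟨i, hi⟩ : ∃ i : ℕ, u a = (x ^ i) a := by
      rw [hs] at hua
      simp only [Finset.mem_insert, Finset.mem_singleton] at hua
      rcases hua with e | e | e
      · exact ⟨0, e⟩
      · exact ⟨1, by rw [pow_one]; exact e⟩
      · exact ⟨2, by rw [pow_two, Perm.mul_apply]; exact e⟩
    have hxi : ∀ c, x ((x ^ i) c) = (x ^ i) (x c) := fun c => by
      rw [← Perm.mul_apply, ← Perm.mul_apply, ← pow_succ, ← pow_succ']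
    refine ⟨i, fun c hc' => ?_⟩
    rw [hs] at hc'
    simp only [Finset.mem_insert, Finset.mem_singleton] at hc'
    rcases hc' with rfl | rfl | rfl
    · exact hi
    · rw [hcomm, hi, hxi]
    · rw [hcomm, hcomm, hi, hxi, hxi]
  obtain ⟨i, hi⟩ := hpow g hg
  obtain ⟨j, hj⟩ := hpow g' hg'
  have hxs : ∀ (k : ℕ) (c : α), c ∈ x.support → (x ^ k) c ∈ x.support :=
    fun k c hc => pow_apply_mem_support.2 hc
  have hswap : ∀ c ∈ x.support, (g * g') c = (g' * g) c := fun c hc => by
    rw [Perm.mul_apply, Perm.mul_apply, hj c hc, hi c hc, hi _ (hxs j c hc), hj _ (hxs i c hc),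
      ← Perm.mul_apply, ← Perm.mul_apply, ← pow_add, ← pow_add, add_comm]
  have hinv : ∀ u ∈ F, ∀ c ∈ x.support, u⁻¹ c ∈ x.support := fun u hu c hc' => by
    rw [mem_support] at hc' ⊢
    intro e
    apply hc'
    have := congrArg (fun z : Perm α => z (u⁻¹ c)) (hc u hu)
    simp only [Perm.mul_apply, e] at this
    simpa using this.symm
  have hb' := hinv g' hg' b hb
  have hb'' := hinv g hg _ hb'
  rw [commutatorElement_def, mul_assoc, Perm.mul_apply, hswap _ (by rw [Perm.mul_apply]; exact hb'')]
  simp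

/-- A three-cycle puts the generalised Fitting subgroup into an alternating group. -/
theorem genFitting_equiv_alternating (hF : Cfsg.IsQuasisimple (Cfsg.generalizedFittingSubgroup H))
    {x : Perm α} (hx : x.IsThreeCycle) (hxH : x ∈ H) :
    ∃ Δ : Finset α, 5 ≤ Δ.card ∧ x.support ⊆ Δ ∧
      (Cfsg.generalizedFittingSubgroup H).map H.subtype = altOn Δ := by
  classical
  have h0 : AllCycles H x.support := by
    intro f hf hs
    have hse : f.support = x.support := Finset.eq_of_subset_of_card_le hs (by rw [hf.card_support, hx.card_support])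
    obtain ⟨a, ha⟩ : x.support.Nonempty := Finset.card_pos.1 (by rw [hx.card_support]; omega)
    have ha' : f a ≠ a := mem_support.1 (hse ▸ ha)
    obtain ⟨-, h1, h2, h3⟩ := cycle_orbit (threeCycle_pow_three hf) ha'
    obtain ⟨-, k1, k2, k3⟩ := cycle_orbit (threeCycle_pow_three hx) (mem_support.1 ha)
    have hxeq := threeCycle_eq_cyc hx (mem_support.1 ha)
    have hfx : f a ∈ x.support := hse ▸ apply_mem_support.2 (mem_support.2 ha')
    have hffx : f (f a) ∈ x.support := hse ▸ apply_mem_support.2 (apply_mem_support.2 (mem_support.2 ha'))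
    rw [hxeq, cyc_mem_support k1 k2 k3] at hfx hffx
    simp only [Finset.mem_insert, Finset.mem_singleton] at hfx hffx
    rw [threeCycle_eq_cyc hf ha']
    rcases hfx with e | e | e
    · exact absurd e ha'
    · rcases hffx with e' | e' | e'
      · exact absurd e'.symm h2
      · exact absurd (e'.trans e.symm).symm h3
      · rw [e', e, ← hxeq]; exact hxH
    · rcases hffx with e' | e' | e'
      · exact absurd e'.symm h2
      · rw [e', e]
        have hx2 : cyc a (x (x a)) (x a) = x * x := by
          have h4 : (x * x).IsThreeCycle := hx.isThreeCycle_sq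
          have h5 := threeCycle_eq_cyc h4 (a := a) (by rw [Perm.mul_apply]; exact k2.symm)
          have h6 : (x * x) ((x * x) a) = x a := by
            simp only [Perm.mul_apply]
            rw [(cycle_orbit (threeCycle_pow_three hx) (mem_support.1 ha)).1]
          rw [h6, Perm.mul_apply] at h5
          exact h5.symm
        rw [hx2]
        exact H.mul_mem hxH hxH
      · exact absurd (e'.trans e.symm).symm h3
  obtain ⟨Δ, hΔ, hmax⟩ := Finset.exists_max_image
    (Finset.univ.filter fun Δ : Finset α => x.support ⊆ Δ ∧ AllCycles H Δ) Finset.card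
    ⟨x.support, by simp [h0]⟩
  obtain ⟨hxΔ, hall⟩ := (Finset.mem_filter.1 hΔ).2
  have hcard3 : 3 ≤ Δ.card := hx.card_support ▸ Finset.card_le_card hxΔ
  have hdich : ∀ y : Perm α, y.IsThreeCycle → y ∈ H → y.support ⊆ Δ ∨ Disjoint y.support Δ := by
    intro y hy hyH
    by_contra hc
    push Not at hc
    obtain ⟨p, hpy, hp⟩ := Finset.not_disjoint_iff.1 hc.2
    obtain ⟨Δ', hlt, hall'⟩ := hall.extend hcard3 hy hyH hp hpy hc.1
    have := hmax Δ' (Finset.mem_filter.2 ⟨Finset.mem_univ _, hxΔ.trans hlt.subset, hall'⟩)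
    exact absurd (Finset.card_lt_card hlt) (not_lt.2 this)
  -- the alternating group on `Δ` is subnormal
  set N : Subgroup H := (altOn Δ).subgroupOf H with hN
  let D : Set H := {y | (y : Perm α).IsThreeCycle}
  haveI hXn : (Subgroup.closure D).Normal := by
    rw [← Subgroup.normalizer_eq_top_iff, eq_top_iff]
    intro g _
    refine Subgroup.mem_normalizer_iff.2 fun y => ?_
    have key : ∀ (g : H), ∀ y ∈ Subgroup.closure D, g * y * g⁻¹ ∈ Subgroup.closure D := by
      intro g y hy
      induction hy using Subgroup.closure_induction with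
      | mem d hd =>
        refine Subgroup.subset_closure ?_
        show ((g : Perm α) * d * (g : Perm α)⁻¹).IsThreeCycle
        show cycleType _ = _
        rw [cycleType_conj]
        exact hd
      | one => simp
      | mul a b _ _ ha hb => simpa [mul_assoc] using mul_mem ha hb
      | inv a _ ha => simpa [mul_assoc] using inv_mem ha
    exact ⟨key g y, fun h => by simpa [mul_assoc] using key g⁻¹ _ h⟩
  have hNX : N ≤ Subgroup.closure D := by
    intro g hg
    obtain ⟨f, hf, hfg⟩ := (Subgroup.mem_subgroupOf.1 hg : (g : Perm α) ∈ altOn Δ)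
    suffices ∀ f ∈ alternatingGroup {x // x ∈ Δ}, ∀ h : ofSubtype f ∈ H,
        (⟨_, h⟩ : H) ∈ Subgroup.closure D by
      have h1 := this f hf (hfg ▸ g.2)
      rwa [show (⟨ofSubtype f, hfg ▸ g.2⟩ : H) = g from Subtype.ext hfg] at h1
    intro f hf
    rw [← closure_three_cycles_eq_alternating] at hf
    induction hf using Subgroup.closure_induction with
    | mem d hd =>
      intro h
      refine Subgroup.subset_closure ?_
      show cycleType _ = _
      rw [cycleType_ofSubtype]
      exact hd
    | one =>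
      intro h
      convert (Subgroup.closure D).one_mem
      exact map_one _
    | mul a b ha hb iha ihb =>
      intro h
      have hmemH : ∀ z ∈ Subgroup.closure {f : Perm {x // x ∈ Δ} | f.IsThreeCycle}, ofSubtype z ∈ H := fun z hz =>
        hall.altOn_le ⟨z, by rw [SetLike.mem_coe, ← closure_three_cycles_eq_alternating]; exact hz, rfl⟩
      rw [show (⟨ofSubtype (a * b), h⟩ : H) = ⟨_, hmemH a ha⟩ * ⟨_, hmemH b hb⟩ from Subtype.ext (map_mul _ _ _)]
      exact mul_mem (iha _) (ihb _)
    | inv a ha iha =>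
      intro h
      have h' : ofSubtype a ∈ H := by simpa using H.inv_mem h
      rw [show (⟨ofSubtype a⁻¹, h⟩ : H) = (⟨_, h'⟩ : H)⁻¹ from Subtype.ext (map_inv _ _)]
      exact inv_mem (iha h')
  have hNsub : N.IsSubnormal := by
    refine Subgroup.IsSubnormal.step _ _ hNX (Subgroup.Normal.isSubnormal inferInstance) ?_
    rw [Subgroup.normal_subgroupOf_iff_le_normalizer hNX, Subgroup.closure_le]
    intro y hy
    have key : ∀ z : Perm α, z.IsThreeCycle → z ∈ H → ∀ g ∈ altOn Δ, z * g * z⁻¹ ∈ altOn Δ := by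
      intro z hz hzH g hg
      rcases hdich z hz hzH with h | h
      · exact (altOn Δ).mul_mem ((altOn Δ).mul_mem (mem_altOn hz h) hg) ((altOn Δ).inv_mem (mem_altOn hz h))
      · have hdisj : Perm.Disjoint z g := fun a => by
          by_cases ha : a ∈ Δ
          · exact Or.inl (notMem_support.1 fun hh => Finset.disjoint_left.1 h hh ha)
          · exact Or.inr (altOn_fix hg ha)
        rw [hdisj.commute.eq, mul_inv_cancel_right]
        exact hg
    have hinv : ((y : Perm α)⁻¹).IsThreeCycle := by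
      show cycleType _ = _
      rw [cycleType_inv]; exact hy
    refine Subgroup.mem_normalizer_iff.2 fun g => ⟨fun hg => key y hy y.2 g hg, fun hg => ?_⟩
    have := key _ hinv (H.inv_mem y.2) _ hg
    show (g : Perm α) ∈ altOn Δ
    simpa [mul_assoc] using this
  -- compare with the generalised Fitting subgroup
  set F := Cfsg.generalizedFittingSubgroup H with hFdef
  haveI hFn : F.Normal := Components.genFitting_normal_inst
  have hFc : Cfsg.IsComponent F := ⟨Subgroup.Normal.isSubnormal hFn, hF⟩
  have hperf : ⁅F, F⁆ = F := Components.component_commutator_self hFc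
  rcases Components.component_le_or_commutator hFc hNsub with hle | hcomm
  swap
  · exfalso
    have hcF : N ≤ Subgroup.centralizer (F : Set H) := by
      rw [← Subgroup.commutator_eq_bot_iff_le_centralizer, Subgroup.commutator_comm, hcomm]
    have hxN : (⟨x, hxH⟩ : H) ∈ N := mem_altOn hx hxΔ
    have hxF : (⟨x, hxH⟩ : H) ∈ F := Components.centralizer_genFitting_le (hcF hxN)
    obtain ⟨a, ha⟩ : x.support.Nonempty := Finset.card_pos.1 (by rw [hx.card_support]; omega)
    refine mem_support.1 ha (eq_one_of_perfect_centralizes hx (F.map H.subtype)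
      (by rw [← Subgroup.map_commutator, hperf]) ?_ x ⟨_, hxF, rfl⟩ a ha)
    rintro _ ⟨f, hf, rfl⟩
    exact congrArg Subtype.val (Subgroup.mem_centralizer_iff.1 (hcF hxN) f hf)
  obtain ⟨e⟩ := altOn_equiv Δ
  let e' : alternatingGroup {x // x ∈ Δ} ≃* N :=
    e.trans (Subgroup.subgroupOfEquivOfLe hall.altOn_le).symm
  have h5 : 5 ≤ Δ.card := by
    by_contra hlt
    haveI := CfsgLib.StdForm.isSolvable_perm_of_card_le_four {x // x ∈ Δ}
      (by rw [Nat.card_eq_fintype_card, Fintype.card_coe]; omega)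
    haveI : Group.IsSolvable N := Group.isSolvable_of_surjective (f := e'.toMonoidHom) e'.surjective
    exact Components.component_not_le_of_isSolvable hFc inferInstance hle
  haveI : IsSimpleGroup (alternatingGroup {x // x ∈ Δ}) :=
    alternatingGroup.isSimpleGroup (by rw [Nat.card_eq_fintype_card, Fintype.card_coe]; exact h5)
  haveI : IsSimpleGroup N := e'.symm.isSimpleGroup
  have hFN : F = N := by
    refine le_antisymm hle (Subgroup.subgroupOf_eq_top.1 ?_)
    rcases (IsSimpleGroup.eq_bot_or_eq_top_of_normal (F.subgroupOf N) inferInstance) with h | h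
    · rw [Subgroup.subgroupOf_eq_bot, disjoint_of_le_iff_left_eq_bot hle] at h
      exact absurd h (Components.component_ne_bot hFc)
    · exact h
  refine ⟨Δ, h5, hxΔ, ?_⟩
  show F.map H.subtype = altOn Δ
  rw [hFN, hN, Subgroup.subgroupOf_map_subtype, inf_eq_left.2 hall.altOn_le]

end CfsgLib.PermGen
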